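import Mathlib

/-!
# An averaging lemma for actions on abelian groups

If `c` acts fixed point freely on `S` and `c ^ p = 1`, then every `u` all of whose `S`-translates
have trivial `c`-norm is fixed by `S` (coprime orders).
-/

set_option linter.style.haveILetI false
set_option autoImplicit false

namespace CfsgLib.Ward

variable {Γ V : Type*} [Group Γ] [Finite Γ] [CommGroup V] [Finite V] (φ : Γ →* MulAut V)

theorem fixed_of_norm_one {p : ℕ} (hp : p.Prime) (S : Subgroup Γ) {c : Γ}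
    (hc : c ∈ Subgroup.normalizer (S : Set Γ)) (hcp : c ^ p = 1)
    (hfree : ∀ s ∈ S, c * s * c⁻¹ = s → s = 1) (hcop : (Nat.card S).Coprime (Nat.card V)) {u : V}
    (hu : ∀ x ∈ S, ∏ i ∈ Finset.range p, φ (c ^ i * x) u = 1) :
    ∀ x ∈ S, φ x u = u := by
  classical
  haveI := Fintype.ofFinite Γ
  have hcompose : ∀ (a b : Γ) (v : V), φ a (φ b v) = φ (a * b) v := fun a b v => by
    rw [map_mul, MulAut.mul_apply]
  have hck : ∀ i : ℕ, ∀ x ∈ S, c ^ i * x * (c ^ i)⁻¹ ∈ S := fun i x hx =>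
    (Subgroup.mem_normalizer_iff.mp
      ((Subgroup.normalizer (S : Set Γ)).pow_mem hc i) x).mp hx
  let F : V → V := fun v => ∏ x : S, φ (x : Γ) v
  have hF : ∀ v, ∀ s ∈ S, φ s (F v) = F v := by
    intro v s hs
    simp only [F, map_prod]
    exact Fintype.prod_equiv (Equiv.mulLeft (⟨s, hs⟩ : S)) _ _ fun x => hcompose s (x : Γ) v
  have hsum : ∏ i ∈ Finset.range p, ∏ x : S, φ ((x : Γ)⁻¹ * (c ^ i * x)) u = 1 := by
    rw [Finset.prod_comm]
    refine Finset.prod_eq_one fun x _ => ?_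
    rw [← Finset.prod_congr rfl (fun i _ => hcompose (x : Γ)⁻¹ (c ^ i * x) u), ← map_prod,
      hu x x.2, map_one]
  have hcol : ∀ i ∈ (Finset.range p).erase 0,
      ∏ x : S, φ ((x : Γ)⁻¹ * (c ^ i * x)) u = F (φ (c ^ i) u) := by
    intro i hi
    obtain ⟨hi0, hip⟩ := Finset.mem_erase.1 hi
    have hip' := Finset.mem_range.1 hip
    let f : S → S := fun x => ⟨(x : Γ)⁻¹ * (c ^ i * x * (c ^ i)⁻¹),
      S.mul_mem (S.inv_mem x.2) (hck i x x.2)⟩
    have hf : Function.Bijective f := by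
      refine Finite.injective_iff_bijective.1 fun a b hab => Subtype.ext ?_
      have h1 : (a : Γ)⁻¹ * (c ^ i * a * (c ^ i)⁻¹) = (b : Γ)⁻¹ * (c ^ i * b * (c ^ i)⁻¹) :=
        congrArg Subtype.val hab
      set y := (a : Γ) * (b : Γ)⁻¹ with hy
      have h2 : c ^ i * y * (c ^ i)⁻¹ = y := by
        have e : c ^ i * y * (c ^ i)⁻¹ =
            (c ^ i * a * (c ^ i)⁻¹) * (c ^ i * b * (c ^ i)⁻¹)⁻¹ := by rw [hy]; group
        rw [e, show c ^ i * a * (c ^ i)⁻¹ = (a : Γ) * ((b : Γ)⁻¹ * (c ^ i * b * (c ^ i)⁻¹)) by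
          rw [← h1, mul_inv_cancel_left], hy]
        group
      let C : Subgroup Γ := Subgroup.centralizer {y}
      have h3 : c ^ i ∈ C := Subgroup.mem_centralizer_singleton_iff.mpr (mul_inv_eq_iff_eq_mul.mp h2)
      have hcop' : Nat.Coprime i p :=
        (hp.coprime_iff_not_dvd.2 (Nat.not_dvd_of_pos_of_lt (Nat.pos_of_ne_zero hi0) hip')).symm
      obtain ⟨k, hk⟩ := Nat.exists_mul_mod_eq_one_of_coprime hcop' hp.one_lt
      have hcC : c ∈ C := by
        have h4 : (c ^ i) ^ k = c := by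
          rw [← pow_mul, pow_eq_pow_mod _ hcp, hk.2, pow_one]
        rw [← h4]
        exact C.pow_mem h3 k
      have hyS : y ∈ S := S.mul_mem a.2 (S.inv_mem b.2)
      exact mul_inv_eq_one.mp (hfree y hyS
        (mul_inv_eq_iff_eq_mul.mpr (Subgroup.mem_centralizer_singleton_iff.mp hcC)))
    refine Fintype.prod_bijective f hf _ _ fun x => ?_
    show φ ((x : Γ)⁻¹ * (c ^ i * x)) u = φ ((x : Γ)⁻¹ * (c ^ i * x * (c ^ i)⁻¹)) (φ (c ^ i) u)
    rw [hcompose]
    congr 2
    group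
  rw [← Finset.mul_prod_erase _ _ (Finset.mem_range.2 hp.pos), Finset.prod_congr rfl hcol] at hsum
  simp only [pow_zero, one_mul, inv_mul_cancel, map_one, MulAut.one_apply, Finset.prod_const,
    Finset.card_univ] at hsum
  intro s hs
  have h1 : φ s (u ^ Fintype.card S) = u ^ Fintype.card S := by
    rw [eq_inv_of_mul_eq_one_left hsum, map_inv (φ s), map_prod]
    simp only [hF _ s hs]
  rw [map_pow, ← Nat.card_eq_fintype_card] at h1
  exact (Nat.Coprime.pow_left_bijective (G := V) hcop.symm).1 h1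

/-- The product over the powers of `c` is fixed by `c`. -/
theorem norm_fixed {p : ℕ} {c : Γ} (hcp : c ^ p = 1) (v : V) :
    φ c (∏ i ∈ Finset.range p, φ (c ^ i) v) = ∏ i ∈ Finset.range p, φ (c ^ i) v := by
  rw [map_prod]
  have h2 : ∏ i ∈ Finset.range p, φ c (φ (c ^ i) v) = ∏ i ∈ Finset.range p, φ (c ^ (i + 1)) v :=
    Finset.prod_congr rfl fun i _ => by rw [← MulAut.mul_apply, ← map_mul, ← pow_succ']
  rw [h2]
  have h3 := Finset.prod_range_succ' (fun i => φ (c ^ i) v) p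
  rw [Finset.prod_range_succ] at h3
  simp only [hcp, pow_zero] at h3
  exact (mul_right_cancel h3).symm

end CfsgLib.Ward
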