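import Mathlib
import Cfsg.Agent.Lib.Ward.Average
import Cfsg.Agent.Lib.Coprime.Action2

/-!
# The configuration at the heart of Ward's theorem

`A` elementary abelian of order `p ^ 2` acts on `Q`, `S` and irreducibly with `Q`, `S` on an abelian
group `V`, all without fixed points, `a ∈ A` centralizes `S`; this is impossible when `Q = [Q, S]`.
-/

set_option linter.style.haveILetI false
set_option autoImplicit false

namespace CfsgLib.Ward

open scoped commutatorElement

variable {Γ V : Type*} [Group Γ] [Finite Γ] [CommGroup V] [Finite V] (φ : Γ →* MulAut V)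

/-- With abelian image, the commutators with `b` fix every vector of trivial `b`-norm. -/
theorem commutator_fixes {p q : ℕ} (hp : p.Prime) (hq : q.Prime) (hpq : p ≠ q)
    {P : Subgroup Γ} (hP : IsPGroup q P) {b : Γ} (hb : b ∈ Subgroup.normalizer (P : Set Γ))
    (hbp : b ^ p = 1) (hcomm : ∀ x ∈ P, ∀ y ∈ P, φ x * φ y = φ y * φ x)
    (hcop : (Nat.card P).Coprime (Nat.card V)) {u : V}
    (hu : ∀ x ∈ P, ∏ i ∈ Finset.range p, φ (b ^ i * x) u = 1) :
    ∀ x ∈ P, φ (x⁻¹ * (b * x * b⁻¹)) u = u := by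
  classical
  set E := P.map φ with hE
  haveI hEc : IsMulCommutative E := ⟨⟨by
    rintro ⟨_, x, hx, rfl⟩ ⟨_, y, hy, rfl⟩
    exact Subtype.ext (hcomm x hx y hy)⟩⟩
  letI : CommGroup E :=
    { (inferInstance : Group E) with mul_comm := fun a b => hEc.is_comm.comm a b }
  have hbE : ∀ e ∈ E, φ b * e * (φ b)⁻¹ ∈ E := by
    rintro _ ⟨x, hx, rfl⟩
    exact ⟨b * x * b⁻¹, (Subgroup.mem_normalizer_iff.mp hb x).mp hx, by simp⟩
  let f : E →* E :=
    { toFun := fun e => ⟨φ b * e * (φ b)⁻¹, hbE e e.2⟩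
      map_one' := Subtype.ext (by simp)
      map_mul' := fun a a' => Subtype.ext (by simp [mul_assoc]) }
  let g : E →* E :=
    { toFun := fun e => e⁻¹ * f e
      map_one' := by simp
      map_mul' := fun a a' => by rw [map_mul, mul_inv]; ac_rfl }
  set D := (g.range).map E.subtype with hD
  have hDE : D ≤ E := Subgroup.map_subtype_le _
  have hcardE : Nat.card E ∣ Nat.card P := Subgroup.card_map_dvd P φ
  have hfree : ∀ d ∈ D, φ b * d * (φ b)⁻¹ = d → d = 1 := by
    rintro _ ⟨_, ⟨e, rfl⟩, rfl⟩ hfix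
    have hfy : f (g e) = g e := Subtype.ext hfix
    have hit : ∀ i : ℕ, f^[i] e = e * (g e) ^ i := by
      intro i
      induction i with
      | zero => simp
      | succ i ih =>
        rw [Function.iterate_succ_apply', ih, map_mul, map_pow, hfy, pow_succ]
        have : f e = e * g e := by
          show f e = e * (e⁻¹ * f e)
          rw [mul_inv_cancel_left]
        rw [this]
        ac_rfl
    have hfp : ∀ i : ℕ, ((f^[i] e : E) : MulAut V) = φ b ^ i * e * (φ b ^ i)⁻¹ := by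
      intro i
      induction i with
      | zero => simp
      | succ i ih =>
        rw [Function.iterate_succ_apply', pow_succ']
        show φ b * (f^[i] e : E) * (φ b)⁻¹ = _
        rw [ih]
        group
    have h1 : f^[p] e = e := Subtype.ext (by
      rw [hfp, ← map_pow, hbp, map_one, inv_one, mul_one, one_mul])
    rw [hit, mul_eq_left] at h1
    have h2 : orderOf (g e) ∣ Nat.card P := (orderOf_dvd_natCard _).trans hcardE
    haveI := Fact.mk hq
    obtain ⟨n, hn⟩ := IsPGroup.iff_card.mp hP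
    rw [hn] at h2
    have h3 : g e = 1 := orderOf_eq_one_iff.mp (Nat.eq_one_of_dvd_coprimes
      (Nat.Coprime.pow_right n ((Nat.coprime_primes hp hq).mpr hpq)) (orderOf_dvd_of_pow_eq_one h1) h2)
    simp [h3]
  have hnorm : φ b ∈ Subgroup.normalizer (D : Set (MulAut V)) := by
    haveI : Finite (MulAut V) := Finite.of_injective (fun β : MulAut V => (β : V → V))
      DFunLike.coe_injective
    rw [Subgroup.mem_normalizer_iff]
    have hle : D.map (MulAut.conj (φ b)).toMonoidHom ≤ D := by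
      rintro _ ⟨_, ⟨_, ⟨e, rfl⟩, rfl⟩, rfl⟩
      refine ⟨g (f e), ⟨f e, rfl⟩, ?_⟩
      show ((f e)⁻¹ * f (f e) : E) = φ b * ((e⁻¹ * f e : E) : MulAut V) * (φ b)⁻¹
      rw [← map_inv f, ← map_mul f]
      rfl
    have heq := Subgroup.eq_of_le_of_card_ge hle
      (Subgroup.card_map_of_injective (K := D) (f := (MulAut.conj (φ b)).toMonoidHom)
        (MulAut.conj (φ b)).injective).ge
    intro x
    refine ⟨fun hx => hle ⟨x, hx, rfl⟩, fun hx => ?_⟩
    rw [← heq] at hx
    obtain ⟨y, hy, hyx⟩ := hx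
    rwa [← (MulAut.conj (φ b)).injective hyx]
  haveI : Finite (MulAut V) := Finite.of_injective (fun β : MulAut V => (β : V → V))
    DFunLike.coe_injective
  have h := fixed_of_norm_one (MonoidHom.id (MulAut V)) hp D hnorm
    (by rw [← map_pow, hbp, map_one]) hfree
    (hcop.coprime_dvd_left ((Subgroup.card_dvd_of_le hDE).trans hcardE)) (u := u) (by
      intro d hd
      obtain ⟨x, hx, rfl⟩ := hDE hd
      have e := hu x hx
      simp only [MonoidHom.id_apply, ← map_pow, ← map_mul]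
      exact e)
  intro x hx
  have h1 := h _ ⟨g ⟨φ x, x, hx, rfl⟩, ⟨_, rfl⟩, rfl⟩
  rw [map_mul, map_mul, map_mul, map_inv, map_inv]
  exact h1

/-- The configuration. -/
theorem no_configuration {p q : ℕ} (hp : p.Prime) (hq : q.Prime) (hpq : p ≠ q)
    [Nontrivial V] (A Q S : Subgroup Γ) [IsMulCommutative A] (hAexp : ∀ b ∈ A, b ^ p = 1)
    (hAcard : Nat.card A = p ^ 2)
    (hAQ : A ≤ Subgroup.normalizer (Q : Set Γ)) (hAS : A ≤ Subgroup.normalizer (S : Set Γ))
    (hSQ : S ≤ Subgroup.normalizer (Q : Set Γ))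
    (hQ : IsPGroup q Q) (hVq : (Nat.card V).Coprime q) (hSq : (Nat.card S).Coprime q)
    (hSp : (Nat.card S).Coprime p) (hVp : (Nat.card V).Coprime p)
    (hfpfV : ∀ v : V, (∀ b ∈ A, φ b v = v) → v = 1)
    (hfpfQ : ∀ x ∈ Q, (∀ b ∈ A, b * x = x * b) → x = 1)
    (hfpfS : ∀ x ∈ S, (∀ b ∈ A, b * x = x * b) → x = 1)
    {a : Γ} (ha : a ∈ A) (ha1 : a ≠ 1) (haS : ∀ s ∈ S, a * s = s * a)
    (hQS : ⁅Q, S⁆ = Q) (hQaS : ∀ x ∈ Q, a * x = x * a → ∀ s ∈ S, s * x = x * s)
    (hQ'S : ∀ z ∈ ⁅Q, Q⁆, ∀ y, y ∈ Q ∨ y ∈ S → y * z = z * y)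
    (hirr : ∀ W : Subgroup V, (∀ g, g ∈ A ∨ g ∈ Q ∨ g ∈ S → ∀ v ∈ W, φ g v ∈ W) → W = ⊥ ∨ W = ⊤)
    (hQV : ∀ v : V, (∀ x ∈ Q, φ x v = v) → v = 1) : False := by
  classical
  haveI := Fintype.ofFinite Γ
  haveI := Fact.mk hp
  haveI := Fact.mk hq
  have hcompose : ∀ (a b : Γ) (v : V), φ a (φ b v) = φ (a * b) v := fun a b v => by
    rw [map_mul, MulAut.mul_apply]
  have hAmul : ∀ b ∈ A, ∀ c ∈ A, b * c = c * b := fun b hb c hc =>
    congrArg Subtype.val ((IsMulCommutative.is_comm (M := A)).comm ⟨b, hb⟩ ⟨c, hc⟩)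
  have hAnc : ¬ IsCyclic A := by
    intro hcyc
    obtain ⟨g, hg⟩ := IsCyclic.exists_ofOrder_eq_natCard (α := A)
    have h1 : orderOf g ∣ p := orderOf_dvd_of_pow_eq_one (Subtype.ext (by simpa using hAexp g g.2))
    rw [hg, hAcard] at h1
    have h2 := Nat.le_of_dvd hp.pos h1
    nlinarith [hp.two_le]
  -- two independent elements generate `A`
  have hgen : ∀ b ∈ A, b ≠ 1 → ∀ c ∈ A, c ∉ Subgroup.zpowers b →
      Subgroup.zpowers b ⊔ Subgroup.zpowers c = A := by
    intro b hb hb1 c hc hcb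
    set B := Subgroup.zpowers b ⊔ Subgroup.zpowers c with hB
    have hle : B ≤ A := sup_le (Subgroup.zpowers_le.mpr hb) (Subgroup.zpowers_le.mpr hc)
    refine Subgroup.eq_of_le_of_card_ge hle ?_
    rw [hAcard]
    have hbo : orderOf b = p := orderOf_eq_prime (hAexp b hb) hb1
    obtain ⟨j, hj2, hjc⟩ := (Nat.dvd_prime_pow hp).mp (hAcard ▸ Subgroup.card_dvd_of_le hle)
    rw [hjc]
    refine Nat.pow_le_pow_right hp.pos ?_
    by_contra hlt
    push Not at hlt
    have h1 : Nat.card B ≤ Nat.card (Subgroup.zpowers b) := by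
      rw [Nat.card_zpowers, hbo, hjc]
      exact (Nat.pow_le_pow_right hp.pos (by omega : j ≤ 1)).trans_eq (pow_one p)
    have h2 := Subgroup.eq_of_le_of_card_ge (le_sup_left : Subgroup.zpowers b ≤ B) h1
    exact hcb (h2 ▸ Subgroup.mem_sup_right (Subgroup.mem_zpowers c))
  have hfix2 : ∀ (v : V) (b c : Γ), b ∈ A → b ≠ 1 → c ∈ A → c ∉ Subgroup.zpowers b →
      φ b v = v → φ c v = v → v = 1 := by
    intro v b c hb hb1 hc hcb h1 h2
    let K : Subgroup Γ :=
      { carrier := {g | φ g v = v}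
        mul_mem' := fun {x y} (hx : φ x v = v) (hy : φ y v = v) => by
          show φ (x * y) v = v
          rw [← hcompose, hy, hx]
        one_mem' := by
          show φ 1 v = v
          rw [map_one, MulAut.one_apply]
        inv_mem' := fun {x} (hx : φ x v = v) => by
          show φ x⁻¹ v = v
          conv_lhs => rw [← hx]
          rw [hcompose, inv_mul_cancel, map_one, MulAut.one_apply] }
    have : A ≤ K := by
      rw [← hgen b hb hb1 c hc hcb]
      exact sup_le (Subgroup.zpowers_le.mpr h1) (Subgroup.zpowers_le.mpr h2)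
    exact hfpfV v fun g hg => this hg
  have hexists : ∀ b ∈ A, ∃ c ∈ A, c ∉ Subgroup.zpowers b := by
    intro b hb
    by_contra h
    push Not at h
    have h1 := Subgroup.card_le_of_le (h : A ≤ Subgroup.zpowers b)
    rw [hAcard, Nat.card_zpowers] at h1
    have h2 := Nat.le_of_dvd hp.pos (orderOf_dvd_of_pow_eq_one (hAexp b hb))
    nlinarith [hp.two_le]
  have hQcop : ∀ P : Subgroup Γ, P ≤ Q → (Nat.card P).Coprime (Nat.card V) := fun P hP => by
    obtain ⟨n, hn⟩ := IsPGroup.iff_card.mp (hQ.to_le hP)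
    rw [hn]
    exact Nat.Coprime.pow_left n hVq.symm
  -- fixed elements of `Q` fix the fixed points
  have hcentr : ∀ b ∈ A, b ≠ 1 → ∀ h ∈ Q, b * h = h * b → ∀ v, φ b v = v → φ h v = v := by
    intro b hb hb1 h hh hbh v hv
    obtain ⟨c, hc, hcb⟩ := hexists b hb
    set P := Q ⊓ Subgroup.centralizer ({b} : Set Γ) with hP
    have hmem : ∀ x ∈ P, b * x = x * b := fun x hx =>
      (Subgroup.mem_centralizer_singleton_iff.mp hx.2).symm
    have hcP : c ∈ Subgroup.normalizer (P : Set Γ) := by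
      rw [Subgroup.mem_normalizer_iff]
      intro x
      have e1 : b * (c * x * c⁻¹) = c * (b * x) * c⁻¹ := by
        rw [← mul_assoc, ← mul_assoc, hAmul b hb c hc]; simp only [mul_assoc]
      have e2 : (c * x * c⁻¹) * b = c * (x * b) * c⁻¹ := by
        rw [mul_assoc _ c⁻¹ b, show c⁻¹ * b = b * c⁻¹ from hAmul c⁻¹ (A.inv_mem hc) b hb]
        simp only [mul_assoc]
      refine and_congr (Subgroup.mem_normalizer_iff.mp (hAQ hc) x) ?_
      refine (Subgroup.mem_centralizer_singleton_iff.trans ?_).trans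
        Subgroup.mem_centralizer_singleton_iff.symm
      rw [e1, e2, mul_right_cancel_iff, mul_left_cancel_iff]
    have hfree : ∀ x ∈ P, c * x * c⁻¹ = x → x = 1 := by
      intro x hx hcx
      refine hfpfQ x hx.1 ?_
      have hle : A ≤ Subgroup.centralizer ({x} : Set Γ) := by
        rw [← hgen b hb hb1 c hc hcb]
        exact sup_le (Subgroup.zpowers_le.mpr (Subgroup.mem_centralizer_singleton_iff.mpr (hmem x hx)))
          (Subgroup.zpowers_le.mpr (Subgroup.mem_centralizer_singleton_iff.mpr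
            (mul_inv_eq_iff_eq_mul.mp hcx)))
      exact fun g hg => Subgroup.mem_centralizer_singleton_iff.mp (hle hg)
    refine fixed_of_norm_one φ hp P hcP (hAexp c hc) hfree (hQcop P inf_le_left) (u := v) ?_ h
      ⟨hh, Subgroup.mem_centralizer_singleton_iff.mpr hbh.symm⟩
    intro x hx
    rw [Finset.prod_congr rfl (fun i _ => (hcompose (c ^ i) x v).symm)]
    refine hfix2 _ b c hb hb1 hc hcb ?_ (norm_fixed φ (hAexp c hc) _)
    rw [map_prod]
    refine Finset.prod_congr rfl fun i _ => ?_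
    rw [hcompose, hAmul b hb _ (A.pow_mem hc i), ← hcompose, hcompose b x, hmem x hx, ← hcompose,
      hv]
  -- invariance of fixed-point subgroups
  let fixed : Set Γ → Subgroup V := fun T =>
    { carrier := {v | ∀ g ∈ T, φ g v = v}
      mul_mem' := fun {u v} hu hv g hg => by rw [map_mul, hu g hg, hv g hg]
      one_mem' := fun g _ => map_one _
      inv_mem' := fun {u} hu g hg => by rw [map_inv, hu g hg] }
  have hfixinv : ∀ T : Set Γ, (∀ g, g ∈ A ∨ g ∈ Q ∨ g ∈ S → ∀ t ∈ T, g⁻¹ * t * g ∈ T) →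
      fixed T = ⊥ ∨ fixed T = ⊤ := fun T hT => hirr _ fun g hg v hv t ht => by
    rw [hcompose, show t * g = g * (g⁻¹ * t * g) by group, ← hcompose, hv _ (hT g hg t ht)]
  set Z := ⁅Q, Q⁆ with hZdef
  have hZQ : Z ≤ Q := Subgroup.commutator_le_self Q
  have hAZ : ∀ g ∈ A, ∀ z ∈ Z, g * z * g⁻¹ ∈ Z := by
    intro g hg z hz
    have h1 : Z.map (MulAut.conj g).toMonoidHom ≤ Z := by
      rw [hZdef, Subgroup.map_commutator]
      refine Subgroup.commutator_mono ?_ ?_ <;>
      · rintro _ ⟨x, hx, rfl⟩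
        exact (Subgroup.mem_normalizer_iff.mp (hAQ hg) x).mp hx
    exact h1 ⟨z, hz, rfl⟩
  have hZcomm : ∀ x ∈ Z, ∀ y ∈ Z, x * y = y * x := fun x hx y hy => hQ'S y hy x (Or.inl (hZQ hx))
  -- the derived subgroup of `Q` acts trivially
  have hZker : ∀ z ∈ Z, φ z = 1 := by
    by_contra hZne
    push Not at hZne
    obtain ⟨z₁, hz₁, hz₁ne⟩ := hZne
    let Zb : Γ → Set Γ := fun b => {z | z ∈ Z ∧ b * z = z * b}
    have hB : ∀ b ∈ A, b ≠ 1 → (∃ z ∈ Zb b, φ z ≠ 1) → ∀ v, φ b v = v → v = 1 := by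
      intro b hb hb1 ⟨z, hz, hzne⟩ v hv
      rcases hfixinv (Zb b) (by
        intro g hg t ht
        rcases hg with hg | hg | hg
        · refine ⟨by simpa using hAZ g⁻¹ (A.inv_mem hg) t ht.1, ?_⟩
          calc b * (g⁻¹ * t * g) = (b * g⁻¹) * t * g := by group
            _ = g⁻¹ * (b * t) * g := by rw [hAmul b hb g⁻¹ (A.inv_mem hg)]; group
            _ = g⁻¹ * t * (b * g) := by rw [ht.2]; group
            _ = g⁻¹ * t * g * b := by rw [hAmul b hb g hg]; group
        · have e : g⁻¹ * t * g = t := by rw [mul_assoc, ← hQ'S t ht.1 g (Or.inl hg), inv_mul_cancel_left]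
          rw [e]; exact ht
        · have e : g⁻¹ * t * g = t := by rw [mul_assoc, ← hQ'S t ht.1 g (Or.inr hg), inv_mul_cancel_left]
          rw [e]; exact ht) with h | h
      · have hm : v ∈ fixed (Zb b) := fun t ht => hcentr b hb hb1 t (hZQ ht.1) ht.2 v hv
        rwa [h, Subgroup.mem_bot] at hm
      · refine absurd (MulEquiv.ext fun w => ?_) hzne
        have hw : w ∈ fixed (Zb b) := h ▸ Subgroup.mem_top w
        exact hw z hz
    have hbZ : ∀ b ∈ A, b ∈ Subgroup.normalizer (Z : Set Γ) := fun b hb => by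
      rw [Subgroup.mem_normalizer_iff]
      exact fun x => ⟨hAZ b hb x, fun hx => by
        simpa [mul_assoc] using hAZ b⁻¹ (A.inv_mem hb) _ hx⟩
    have hZim : ∀ x ∈ Z, ∀ y ∈ Z, φ x * φ y = φ y * φ x := fun x hx y hy => by
      rw [← map_mul, ← map_mul, hZcomm x hx y hy]
    -- a fixed-point-free element centralizes the image of `Z`
    have hBZ : ∀ b ∈ A, (∀ v, φ b v = v → v = 1) → ∀ z ∈ Z, φ (b * z * b⁻¹) = φ z := by
      intro b hb hfree z hz
      refine MulEquiv.ext fun v => ?_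
      have hu : ∀ u : V, φ (z⁻¹ * (b * z * b⁻¹)) u = u := fun u =>
        commutator_fixes φ hp hq hpq (hQ.to_le hZQ) (hbZ b hb) (hAexp b hb) hZim (hQcop Z hZQ)
          (u := u) (fun x _ => by
            rw [Finset.prod_congr rfl (fun i _ => (hcompose (b ^ i) x u).symm)]
            exact hfree _ (norm_fixed φ (hAexp b hb) _)) z hz
      have h := congrArg (φ z) (hu v)
      rwa [hcompose, mul_inv_cancel_left] at h
    -- `φ Z` is not centralized by all of `A`
    have hnotA : ¬ ∀ b ∈ A, ∀ z ∈ Z, φ (b * z * b⁻¹) = φ z := by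
      intro hall
      apply hz₁ne
      haveI : IsMulCommutative Z :=
        ⟨⟨fun x y => Subtype.ext (hZcomm x x.2 y y.2)⟩⟩
      letI : CommGroup Z :=
        { (inferInstance : Group Z) with mul_comm := fun x y => IsMulCommutative.is_comm.comm x y }
      set y := ∏ b : A, (⟨(b : Γ) * z₁ * (b : Γ)⁻¹, hAZ b b.2 z₁ hz₁⟩ : Z) with hy
      have hyfix : (y : Γ) = 1 := by
        refine hfpfQ y (hZQ y.2) fun c hc => ?_
        let cf : Z →* Z :=
          { toFun := fun x => ⟨c * x * c⁻¹, hAZ c hc x x.2⟩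
            map_one' := Subtype.ext (by simp)
            map_mul' := fun u w => Subtype.ext (by simp [mul_assoc]) }
        have h1 : cf y = y := by
          rw [hy, map_prod]
          refine Fintype.prod_equiv (Equiv.mulLeft (⟨c, hc⟩ : A)) _ _ fun b => Subtype.ext ?_
          show c * ((b : Γ) * z₁ * (b : Γ)⁻¹) * c⁻¹ = (c * (b : Γ)) * z₁ * (c * (b : Γ))⁻¹
          group
        exact mul_inv_eq_iff_eq_mul.mp (congrArg Subtype.val h1)
      let ψ : Z →* MulAut V := φ.comp Z.subtype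
      have h2 : ψ y = φ z₁ ^ Nat.card A := by
        haveI : IsMulCommutative ψ.range := ⟨⟨by
          rintro ⟨_, u, rfl⟩ ⟨_, w, rfl⟩
          exact Subtype.ext (hZim u u.2 w w.2)⟩⟩
        letI : CommGroup ψ.range :=
          { (inferInstance : Group ψ.range) with
            mul_comm := fun x y => IsMulCommutative.is_comm.comm x y }
        have h3 : ψ.rangeRestrict y = (ψ.rangeRestrict ⟨z₁, hz₁⟩) ^ Nat.card A := by
          have e : ∀ b : A, ψ.rangeRestrict (⟨(b : Γ) * z₁ * (b : Γ)⁻¹, hAZ b b.2 z₁ hz₁⟩ : Z) =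
              ψ.rangeRestrict ⟨z₁, hz₁⟩ := fun b => Subtype.ext (hall b b.2 z₁ hz₁)
          rw [hy, map_prod]
          simp only [e, Finset.prod_const, Finset.card_univ, Nat.card_eq_fintype_card]
        have h4 := congrArg Subtype.val h3
        exact h4
      have h3 : φ z₁ ^ Nat.card A = 1 := by
        rw [← h2]
        show φ (y : Γ) = 1
        rw [hyfix, map_one]
      obtain ⟨n, hn⟩ := hQ ⟨z₁, hZQ hz₁⟩
      have h4 : φ z₁ ^ q ^ n = 1 := by
        rw [← map_pow, show z₁ ^ q ^ n = 1 by simpa using congrArg Subtype.val hn, map_one]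
      rw [← orderOf_eq_one_iff]
      refine Nat.eq_one_of_dvd_coprimes ?_ (orderOf_dvd_of_pow_eq_one h3) (orderOf_dvd_of_pow_eq_one h4)
      rw [hAcard]
      exact Nat.Coprime.pow _ _ ((Nat.coprime_primes hp hq).mpr hpq)
    -- elements that do not fix `φ Z` centralize nothing new
    have hCker : ∀ c ∈ A, c ≠ 1 → (∀ z ∈ Zb c, φ z = 1) → ∀ h ∈ Q, c * h = h * c → φ h = 1 := by
      intro c hc hc1 hZc h hh hch
      let T : Set Γ := {t | ∃ z ∈ Z, t = z⁻¹ * (c * z * c⁻¹)}
      have hT : fixed T = ⊥ := by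
        rcases hfixinv T (by
          rintro g hg _ ⟨z, hz, rfl⟩
          rcases hg with hg | hg | hg
          · refine ⟨g⁻¹ * z * g, by simpa using hAZ g⁻¹ (A.inv_mem hg) z hz, ?_⟩
            calc g⁻¹ * (z⁻¹ * (c * z * c⁻¹)) * g
                = (g⁻¹ * z * g)⁻¹ * ((g⁻¹ * c) * z * (g⁻¹ * c)⁻¹) := by group
              _ = _ := by rw [hAmul g⁻¹ (A.inv_mem hg) c hc]; group
          · refine ⟨z, hz, ?_⟩
            rw [mul_assoc, ← hQ'S _ (Z.mul_mem (Z.inv_mem hz) (hAZ c hc z hz)) g (Or.inl hg),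
              inv_mul_cancel_left]
          · refine ⟨z, hz, ?_⟩
            rw [mul_assoc, ← hQ'S _ (Z.mul_mem (Z.inv_mem hz) (hAZ c hc z hz)) g (Or.inr hg),
              inv_mul_cancel_left]) with h0 | h0
        · exact h0
        exfalso
        have hcz : ∀ z ∈ Z, φ (c * z * c⁻¹) = φ z := fun z hz => MulEquiv.ext fun v => by
          have hv : φ (z⁻¹ * (c * z * c⁻¹)) v = v :=
            (h0 ▸ Subgroup.mem_top v : v ∈ fixed T) _ ⟨z, hz, rfl⟩
          have e := congrArg (φ z) hv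
          rwa [hcompose, mul_inv_cancel_left] at e
        apply hz₁ne
        haveI : IsMulCommutative Z := ⟨⟨fun x y => Subtype.ext (hZcomm x x.2 y y.2)⟩⟩
        letI : CommGroup Z :=
          { (inferInstance : Group Z) with mul_comm := fun x y => IsMulCommutative.is_comm.comm x y }
        let cf : MulAut Z :=
          { toFun := fun x => ⟨c * x * c⁻¹, hAZ c hc x x.2⟩
            invFun := fun x => ⟨c⁻¹ * x * c⁻¹⁻¹, hAZ _ (A.inv_mem hc) x x.2⟩
            left_inv := fun x => Subtype.ext (by group)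
            right_inv := fun x => Subtype.ext (by group)
            map_mul' := fun u w => Subtype.ext (by simp [mul_assoc]) }
        have hcfp : cf ^ p = 1 := by
          have h1 : ∀ i : ℕ, ∀ x : Z, ((cf ^ i) x : Γ) = c ^ i * x * (c ^ i)⁻¹ := by
            intro i
            induction i with
            | zero => intro x; simp
            | succ i ih =>
              intro x
              rw [pow_succ', pow_succ', MulAut.mul_apply]
              show c * ((cf ^ i) x : Γ) * c⁻¹ = _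
              rw [ih]; group
          refine MulEquiv.ext fun x => Subtype.ext ?_
          rw [h1, hAexp c hc]; simp
        set y := ∏ i ∈ Finset.range p, (MonoidHom.id (MulAut Z)) (cf ^ i) ⟨z₁, hz₁⟩ with hy
        have hcy : cf y = y := norm_fixed (MonoidHom.id (MulAut Z)) hcfp _
        have h1 : φ (y : Γ) = 1 :=
          hZc _ ⟨y.2, mul_inv_eq_iff_eq_mul.mp (congrArg Subtype.val hcy)⟩
        let ψ : Z →* MulAut V := φ.comp Z.subtype
        haveI : IsMulCommutative ψ.range := ⟨⟨by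
          rintro ⟨_, u, rfl⟩ ⟨_, w, rfl⟩
          exact Subtype.ext (hZim u u.2 w w.2)⟩⟩
        letI : CommGroup ψ.range :=
          { (inferInstance : Group ψ.range) with
            mul_comm := fun x y => IsMulCommutative.is_comm.comm x y }
        have hstep : ∀ i : ℕ, ψ ((cf ^ i) ⟨z₁, hz₁⟩) = φ z₁ := by
          intro i
          induction i with
          | zero => rfl
          | succ i ih =>
            rw [pow_succ', MulAut.mul_apply, ← ih]
            exact hcz _ ((cf ^ i) ⟨z₁, hz₁⟩).2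
        have h2 : ψ.rangeRestrict y = (ψ.rangeRestrict ⟨z₁, hz₁⟩) ^ p := by
          rw [hy, map_prod, Finset.prod_eq_pow_card (b := ψ.rangeRestrict ⟨z₁, hz₁⟩)
            (fun i _ => Subtype.ext (hstep i)), Finset.card_range]
        have h3 : φ z₁ ^ p = 1 := (congrArg Subtype.val h2).symm.trans h1
        obtain ⟨n, hn⟩ := hQ ⟨z₁, hZQ hz₁⟩
        have h4 : φ z₁ ^ q ^ n = 1 := by
          rw [← map_pow, show z₁ ^ q ^ n = 1 by simpa using congrArg Subtype.val hn, map_one]
        rw [← orderOf_eq_one_iff]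
        exact Nat.eq_one_of_dvd_coprimes (Nat.Coprime.pow_right _ ((Nat.coprime_primes hp hq).mpr hpq))
          (orderOf_dvd_of_pow_eq_one h3) (orderOf_dvd_of_pow_eq_one h4)
      refine MulEquiv.ext fun w => ?_
      have hu : φ h w * w⁻¹ ∈ fixed T := by
        rintro _ ⟨z, hz, rfl⟩
        refine commutator_fixes φ hp hq hpq (hQ.to_le hZQ) (hbZ c hc) (hAexp c hc) hZim (hQcop Z hZQ)
          (fun x hx => ?_) z hz
        have e : ∀ i : ℕ, φ (c ^ i * x) (φ h w) = φ h (φ (c ^ i * x) w) := fun i => by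
          rw [hcompose, hcompose]
          congr 2
          rw [mul_assoc, ← hQ'S x hx h (Or.inl hh), ← mul_assoc,
            (show Commute (c ^ i) h from (show Commute c h from hch).pow_left i).eq, mul_assoc]
        simp only [map_mul (φ (c ^ _ * x)), map_inv (φ (c ^ _ * x)), Finset.prod_mul_distrib,
          Finset.prod_inv_distrib, e, ← map_prod]
        rw [mul_inv_eq_one, Finset.prod_congr rfl (fun i _ => (hcompose (c ^ i) x w).symm)]
        exact hcentr c hc hc1 h hh hch _ (norm_fixed φ (hAexp c hc) _)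
      rw [hT, Subgroup.mem_bot, mul_inv_eq_one] at hu
      rw [hu, MulAut.one_apply]
    -- all centralizers commute with one element
    by_cases hBex : ∃ b ∈ A, b ≠ 1 ∧ ∃ z ∈ Zb b, φ z ≠ 1
    swap
    · push Not at hBex
      obtain ⟨v, hv⟩ := exists_ne (1 : V)
      refine hv (hQV v fun x hx => ?_)
      let R : Subgroup Γ := Q ⊓ φ.ker
      have hQR : Q ≤ R := CfsgLib.Coprime.le_of_centralizer_le_of_not_isCyclic hAnc hAQ
        (by obtain ⟨n, hn⟩ := IsPGroup.iff_card.mp hQ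
            rw [hn, hAcard]; exact Nat.Coprime.pow _ _ ((Nat.coprime_primes hp hq).mpr hpq))
        (fun c hc hc1 h hh => ⟨hh.1, hCker c hc hc1 (hBex c hc hc1) h hh.1
          (Subgroup.mem_centralizer_singleton_iff.mp hh.2).symm⟩)
      rw [show φ x = 1 from (hQR hx).2, MulAut.one_apply]
    obtain ⟨b₀, hb₀, hb₀1, hzb₀⟩ := hBex
    have hb₀free := hB b₀ hb₀ hb₀1 hzb₀
    have hin : ∀ c ∈ A, c ≠ 1 → (∃ z ∈ Zb c, φ z ≠ 1) → c ∈ Subgroup.zpowers b₀ := by
      intro c hc hc1 hzc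
      by_contra hcb
      apply hnotA
      intro b hb z hz
      let K : Subgroup Γ :=
        { carrier := {g | g ∈ A ∧ ∀ z ∈ Z, φ (g * z * g⁻¹) = φ z}
          mul_mem' := fun {x y} hx hy => ⟨A.mul_mem hx.1 hy.1, fun z hz => by
            rw [show x * y * z * (x * y)⁻¹ = x * (y * z * y⁻¹) * x⁻¹ by group,
              hx.2 _ (hAZ y hy.1 z hz), hy.2 z hz]⟩
          one_mem' := ⟨A.one_mem, fun z _ => by simp⟩
          inv_mem' := fun {x} hx => ⟨A.inv_mem hx.1, fun z hz => by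
            have := hx.2 _ (hAZ x⁻¹ (A.inv_mem hx.1) z hz)
            rw [show x * (x⁻¹ * z * x⁻¹⁻¹) * x⁻¹ = z by group] at this
            exact this.symm⟩ }
      have hle : A ≤ K := by
        rw [← hgen b₀ hb₀ hb₀1 c hc hcb]
        exact sup_le (Subgroup.zpowers_le.mpr ⟨hb₀, hBZ b₀ hb₀ hb₀free⟩)
          (Subgroup.zpowers_le.mpr ⟨hc, hBZ c hc (hB c hc hc1 hzc)⟩)
      exact (hle hb).2 z hz
    let Rb : Subgroup Γ :=
      { carrier := {x | x ∈ Q ∧ φ (b₀ * x * b₀⁻¹) = φ x ∧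
          (a ∈ Subgroup.zpowers b₀ → ∀ s ∈ S, φ (s * x * s⁻¹) = φ x)}
        mul_mem' := fun {x y} hx hy => ⟨Q.mul_mem hx.1 hy.1, by
          rw [show b₀ * (x * y) * b₀⁻¹ = (b₀ * x * b₀⁻¹) * (b₀ * y * b₀⁻¹) by group, map_mul,
            hx.2.1, hy.2.1, map_mul], fun h s hs => by
          rw [show s * (x * y) * s⁻¹ = (s * x * s⁻¹) * (s * y * s⁻¹) by group, map_mul,
            hx.2.2 h s hs, hy.2.2 h s hs, map_mul]⟩
        one_mem' := ⟨Q.one_mem, by simp, fun _ s _ => by simp⟩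
        inv_mem' := fun {x} hx => ⟨Q.inv_mem hx.1, by
          rw [show b₀ * x⁻¹ * b₀⁻¹ = (b₀ * x * b₀⁻¹)⁻¹ by group, map_inv, hx.2.1, map_inv],
          fun h s hs => by
          rw [show s * x⁻¹ * s⁻¹ = (s * x * s⁻¹)⁻¹ by group, map_inv, hx.2.2 h s hs, map_inv]⟩ }
    have hQRb : Q ≤ Rb := by
      refine CfsgLib.Coprime.le_of_centralizer_le_of_not_isCyclic hAnc hAQ
        (by obtain ⟨n, hn⟩ := IsPGroup.iff_card.mp hQ
            rw [hn, hAcard]; exact Nat.Coprime.pow _ _ ((Nat.coprime_primes hp hq).mpr hpq)) ?_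
      intro c hc hc1 x hx
      have hcx : c * x = x * c := (Subgroup.mem_centralizer_singleton_iff.mp hx.2).symm
      by_cases hzc : ∀ z ∈ Zb c, φ z = 1
      · have hx1 := hCker c hc hc1 hzc x hx.1 hcx
        refine ⟨hx.1, ?_, fun _ s _ => ?_⟩
        · rw [map_mul, map_mul, hx1, map_inv]; simp
        · rw [map_mul, map_mul, hx1, map_inv]; simp
      · push Not at hzc
        have hcb := hin c hc hc1 hzc
        have hzp : Subgroup.zpowers c = Subgroup.zpowers b₀ := by
          refine Subgroup.eq_of_le_of_card_ge (Subgroup.zpowers_le.mpr hcb) ?_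
          rw [Nat.card_zpowers, Nat.card_zpowers, orderOf_eq_prime (hAexp c hc) hc1,
            orderOf_eq_prime (hAexp b₀ hb₀) hb₀1]
        have hC : Subgroup.zpowers c ≤ Subgroup.centralizer ({x} : Set Γ) :=
          Subgroup.zpowers_le.mpr (Subgroup.mem_centralizer_singleton_iff.mpr hcx)
        rw [hzp] at hC
        refine ⟨hx.1, ?_, fun h s hs => ?_⟩
        · rw [Subgroup.mem_centralizer_singleton_iff.mp (hC (Subgroup.mem_zpowers b₀)),
            mul_inv_cancel_right]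
        · rw [hQaS x hx.1 (Subgroup.mem_centralizer_singleton_iff.mp (hC h)) s hs,
            mul_inv_cancel_right]
    -- commutators of `Q` with `S` act trivially
    let G₀ : Subgroup Γ :=
      { carrier := {g | g ∈ Subgroup.normalizer (Q : Set Γ) ∧ ∀ x ∈ Q, φ (g * x * g⁻¹) = φ x}
        mul_mem' := fun {g g'} hg hg' => ⟨mul_mem hg.1 hg'.1, fun x hx => by
          rw [show g * g' * x * (g * g')⁻¹ = g * (g' * x * g'⁻¹) * g⁻¹ by group,
            hg.2 _ ((Subgroup.mem_normalizer_iff.mp hg'.1 x).mp hx), hg'.2 x hx]⟩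
        one_mem' := ⟨one_mem _, fun x _ => by simp⟩
        inv_mem' := fun {g} hg => ⟨inv_mem hg.1, fun x hx => by
          have := hg.2 _ ((Subgroup.mem_normalizer_iff.mp (inv_mem hg.1) x).mp hx)
          rw [show g * (g⁻¹ * x * g⁻¹⁻¹) * g⁻¹ = x by group] at this
          exact this.symm⟩ }
    have hSG : S ≤ G₀ := by
      by_cases hab : a ∈ Subgroup.zpowers b₀
      · exact fun s hs => ⟨hSQ hs, fun x hx => (hQRb hx).2.2 hab s hs⟩
      · have hb₀G : b₀ ∈ G₀ := ⟨hAQ hb₀, fun x hx => (hQRb hx).2.1⟩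
        let f : S → S := fun s => ⟨(s : Γ)⁻¹ * (b₀ * s * b₀⁻¹), S.mul_mem (S.inv_mem s.2)
          ((Subgroup.mem_normalizer_iff.mp (hAS hb₀) _).mp s.2)⟩
        have hf : Function.Surjective f := by
          refine (Finite.injective_iff_surjective).1 fun s t hst => Subtype.ext ?_
          have h1 : (s : Γ)⁻¹ * (b₀ * s * b₀⁻¹) = (t : Γ)⁻¹ * (b₀ * t * b₀⁻¹) :=
            congrArg Subtype.val hst
          have h2 : b₀ * ((s : Γ) * (t : Γ)⁻¹) * b₀⁻¹ = (s : Γ) * (t : Γ)⁻¹ := by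
            rw [show b₀ * ((s : Γ) * (t : Γ)⁻¹) * b₀⁻¹ = (b₀ * s * b₀⁻¹) * (b₀ * t * b₀⁻¹)⁻¹ by group,
              show b₀ * (s : Γ) * b₀⁻¹ = s * ((t : Γ)⁻¹ * (b₀ * t * b₀⁻¹)) by
                rw [← h1, mul_inv_cancel_left]]
            group
          refine mul_inv_eq_one.mp (hfpfS _ (S.mul_mem s.2 (S.inv_mem t.2)) ?_)
          have hle : A ≤ Subgroup.centralizer ({(s : Γ) * (t : Γ)⁻¹} : Set Γ) := by
            rw [← hgen b₀ hb₀ hb₀1 a ha hab]
            exact sup_le (Subgroup.zpowers_le.mpr (Subgroup.mem_centralizer_singleton_iff.mpr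
              (mul_inv_eq_iff_eq_mul.mp h2))) (Subgroup.zpowers_le.mpr
              (Subgroup.mem_centralizer_singleton_iff.mpr (haS _ (S.mul_mem s.2 (S.inv_mem t.2)))))
          exact fun g hg => Subgroup.mem_centralizer_singleton_iff.mp (hle hg)
        intro s hs
        obtain ⟨t, ht⟩ := hf ⟨s, hs⟩
        have htr : (t : Γ)⁻¹ * b₀ * t ∈ G₀ := by
          refine ⟨mul_mem (mul_mem (inv_mem (hSQ t.2)) hb₀G.1) (hSQ t.2), fun x hx => ?_⟩
          have htx : (t : Γ) * x * (t : Γ)⁻¹ ∈ Q := (Subgroup.mem_normalizer_iff.mp (hSQ t.2) x).mp hx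
          rw [show (t : Γ)⁻¹ * b₀ * t * x * ((t : Γ)⁻¹ * b₀ * t)⁻¹ =
            (t : Γ)⁻¹ * (b₀ * (t * x * (t : Γ)⁻¹) * b₀⁻¹) * t by group, map_mul, map_mul,
            hb₀G.2 _ htx, ← map_mul, ← map_mul]
          congr 1
          group
        have := G₀.mul_mem htr (G₀.inv_mem hb₀G)
        rw [show (t : Γ)⁻¹ * b₀ * t * b₀⁻¹ = (f t : Γ) by simp only [f]; group, ht] at this
        exact this
    obtain ⟨v, hv⟩ := exists_ne (1 : V)
    refine hv (hQV v fun x hx => ?_)
    have hle : ⁅Q, S⁆ ≤ φ.ker := Subgroup.commutator_le.mpr fun y hy s hs => by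
      rw [MonoidHom.mem_ker, commutatorElement_def,
        show y * s * y⁻¹ * s⁻¹ = y * (s * y * s⁻¹)⁻¹ by group, map_mul, map_inv, (hSG hs).2 y hy,
        mul_inv_cancel]
    rw [hQS] at hle
    rw [show φ x = 1 from hle hx, MulAut.one_apply]
  -- so `Q` acts as an abelian group
  have hQim : ∀ x ∈ Q, ∀ y ∈ Q, φ x * φ y = φ y * φ x := fun x hx y hy => by
    have h := hZker _ (Subgroup.commutator_mem_commutator hx hy)
    rw [map_commutatorElement, commutatorElement_eq_one_iff_mul_comm] at h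
    exact h
  -- the centralizer of `a` acts trivially
  have hQaker : ∀ x ∈ Q, a * x = x * a → φ x = 1 := by
    intro z hz haz
    set E := Q.map φ with hE
    haveI : IsMulCommutative E := ⟨⟨by
      rintro ⟨_, u, hu, rfl⟩ ⟨_, w, hw, rfl⟩
      exact Subtype.ext (hQim u hu w hw)⟩⟩
    letI : CommGroup E :=
      { (inferInstance : Group E) with mul_comm := fun x y => IsMulCommutative.is_comm.comm x y }
    let cs : S → Q →* E := fun s =>
      { toFun := fun x => ⟨φ ((s : Γ) * x * (s : Γ)⁻¹),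
          ⟨_, (Subgroup.mem_normalizer_iff.mp (hSQ s.2) x).mp x.2, rfl⟩⟩
        map_one' := Subtype.ext (by simp)
        map_mul' := fun u w => Subtype.ext (by
          show φ _ = φ _ * φ _
          rw [← map_mul]; congr 1; simp only [Subgroup.coe_mul]; group) }
    let N : Q →* E :=
      { toFun := fun x => ∏ s : S, cs s x
        map_one' := by simp
        map_mul' := fun u w => by simp [map_mul, Finset.prod_mul_distrib] }
    have hker : ⁅Q, S⁆ ≤ N.ker.map Q.subtype := Subgroup.commutator_le.mpr fun y hy s hs => by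
      have hy' : s * y * s⁻¹ ∈ Q := (Subgroup.mem_normalizer_iff.mp (hSQ hs) y).mp hy
      refine ⟨⟨y, hy⟩ * ⟨s * y * s⁻¹, hy'⟩⁻¹, ?_, by
        show y * (s * y * s⁻¹)⁻¹ = _
        rw [commutatorElement_def]; group⟩
      show N (⟨y, hy⟩ * ⟨s * y * s⁻¹, hy'⟩⁻¹) = 1
      rw [map_mul, map_inv, mul_inv_eq_one]
      refine (Fintype.prod_equiv (Equiv.mulRight (⟨s, hs⟩ : S)) _ _ fun t => Subtype.ext ?_).symm
      show φ ((t : Γ) * (s * y * s⁻¹) * (t : Γ)⁻¹) = φ (((t : Γ) * s) * y * ((t : Γ) * s)⁻¹)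
      congr 1
      group
    rw [hQS] at hker
    obtain ⟨w, hw, hwz⟩ := hker hz
    have hw1 : N w = 1 := hw
    have e : ∀ s : S, cs s w = (⟨φ z, z, hz, rfl⟩ : E) := fun s => Subtype.ext (by
      show φ ((s : Γ) * w * (s : Γ)⁻¹) = φ z
      rw [show (w : Γ) = z from hwz, hQaS z hz haz s s.2, mul_inv_cancel_right])
    have h1 : (⟨φ z, z, hz, rfl⟩ : E) ^ Nat.card S = 1 := by
      rw [← hw1]
      show _ = ∏ s : S, cs s w
      simp only [e, Finset.prod_const, Finset.card_univ, Nat.card_eq_fintype_card]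
    have h1' : φ z ^ Nat.card S = 1 := congrArg Subtype.val h1
    obtain ⟨n, hn⟩ := hQ ⟨z, hz⟩
    have h2 : φ z ^ q ^ n = 1 := by
      rw [← map_pow, show z ^ q ^ n = 1 by simpa using congrArg Subtype.val hn, map_one]
    rw [← orderOf_eq_one_iff]
    exact Nat.eq_one_of_dvd_coprimes (Nat.Coprime.pow_right _ hSq)
      (orderOf_dvd_of_pow_eq_one h1') (orderOf_dvd_of_pow_eq_one h2)
  -- a minimal submodule
  obtain ⟨U, ⟨hU, hUQ⟩, hUmin⟩ := Set.exists_min_image
    {U : Subgroup V | U ≠ ⊥ ∧ ∀ x ∈ Q, ∀ v ∈ U, φ x v ∈ U} (fun U => Nat.card U) (Set.toFinite _)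
    ⟨⊤, top_ne_bot, fun _ _ v _ => Subgroup.mem_top _⟩
  have hUQne : ¬ ∀ x ∈ Q, ∀ v ∈ U, φ x v = v := by
    intro h
    apply hU
    rw [eq_bot_iff]
    exact fun v hv => hQV v fun x hx => h x hx v hv
  have hQnorm : ∀ g, g ∈ A ∨ g ∈ S → g ∈ Subgroup.normalizer (Q : Set Γ) := fun g hg =>
    hg.elim (fun h => hAQ h) (fun h => hSQ h)
  -- the elements centralizing the weight of a translate
  let G : Γ → Set Γ := fun t => {g | g ∈ Subgroup.normalizer (Q : Set Γ) ∧
    ∀ x ∈ Q, ∀ v ∈ U, φ (t⁻¹ * (x⁻¹ * (g * x * g⁻¹)) * t) v = v}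
  -- for every translate some element outside `⟨a⟩` centralizes its weight
  have hweight : ∀ t ∈ S, ∃ b ∈ A, b ∉ Subgroup.zpowers a ∧ b ∈ G t := by
    intro t ht
    have htQ := hSQ ht
    let Kt : Subgroup Γ :=
      { carrier := {x | x ∈ Q ∧ ∀ v ∈ U, φ (t⁻¹ * x * t) v = v}
        mul_mem' := fun {x y} hx hy => ⟨Q.mul_mem hx.1 hy.1, fun v hv => by
          rw [show t⁻¹ * (x * y) * t = (t⁻¹ * x * t) * (t⁻¹ * y * t) by group, ← hcompose,
            hy.2 v hv, hx.2 v hv]⟩
        one_mem' := ⟨Q.one_mem, fun v _ => by simp⟩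
        inv_mem' := fun {x} hx => ⟨Q.inv_mem hx.1, fun v hv => by
          conv_lhs => rw [← hx.2 v hv]
          rw [hcompose, show t⁻¹ * x⁻¹ * t * (t⁻¹ * x * t) = 1 by group, map_one, MulAut.one_apply]⟩ }
    have hconjQ : ∀ x ∈ Q, t⁻¹ * x * t ∈ Q := fun x hx => by
      simpa using (Subgroup.mem_normalizer_iff.mp (inv_mem htQ) x).mp hx
    obtain ⟨c, hc, hc1, h, hh, hch, hhK⟩ : ∃ c ∈ A, c ≠ 1 ∧ ∃ h ∈ Q, c * h = h * c ∧ h ∉ Kt := by
      by_contra hcon
      push Not at hcon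
      apply hUQne
      have hle : Q ≤ Kt := CfsgLib.Coprime.le_of_centralizer_le_of_not_isCyclic hAnc hAQ
        (by obtain ⟨n, hn⟩ := IsPGroup.iff_card.mp hQ
            rw [hn, hAcard]; exact Nat.Coprime.pow _ _ ((Nat.coprime_primes hp hq).mpr hpq))
        (fun c hc hc1 x hx => hcon c hc hc1 x hx.1 (Subgroup.mem_centralizer_singleton_iff.mp hx.2).symm)
      intro x hx v hv
      have h1 := (hle ((Subgroup.mem_normalizer_iff.mp htQ x).mp hx)).2 v hv
      rwa [show t⁻¹ * (t * x * t⁻¹) * t = x by group] at h1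
    refine ⟨c, hc, ?_, hQnorm c (Or.inl hc), ?_⟩
    · intro hca
      apply hhK
      refine ⟨hh, fun v _ => ?_⟩
      have h1 : φ h = 1 := by
        refine hQaker h hh ?_
        have hzp : Subgroup.zpowers c = Subgroup.zpowers a := by
          refine Subgroup.eq_of_le_of_card_ge (Subgroup.zpowers_le.mpr hca) ?_
          rw [Nat.card_zpowers, Nat.card_zpowers, orderOf_eq_prime (hAexp c hc) hc1,
            orderOf_eq_prime (hAexp a ha) ha1]
        have hC : Subgroup.zpowers c ≤ Subgroup.centralizer ({h} : Set Γ) :=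
          Subgroup.zpowers_le.mpr (Subgroup.mem_centralizer_singleton_iff.mpr hch)
        rw [hzp] at hC
        exact Subgroup.mem_centralizer_singleton_iff.mp (hC (Subgroup.mem_zpowers a))
      rw [map_mul, map_mul, h1, map_inv, mul_one, inv_mul_cancel, MulAut.one_apply]
    · intro x hx
      -- some element of the translate is moved by `h`
      obtain ⟨w, hw, hwne⟩ : ∃ w ∈ U, φ (t⁻¹ * h * t) w ≠ w := by
        by_contra hcon
        push Not at hcon
        exact hhK ⟨hh, hcon⟩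
      set k := t⁻¹ * h * t with hk
      have hkQ : k ∈ Q := hconjQ h hh
      have hu : ∀ y ∈ Q, φ (y⁻¹ * (c * y * c⁻¹)) (φ t (φ k w * w⁻¹)) = φ t (φ k w * w⁻¹) := by
        refine commutator_fixes φ hp hq hpq hQ (hAQ hc) (hAexp c hc) hQim (hQcop Q le_rfl) ?_
        intro y hy
        have e : ∀ i : ℕ, φ (c ^ i * y) (φ h (φ t w)) = φ h (φ (c ^ i * y) (φ t w)) := fun i => by
          rw [hcompose, hcompose h]
          have e1 : φ (y * h) = φ (h * y) := by rw [map_mul, map_mul, hQim y hy h hh]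
          rw [mul_assoc, map_mul φ (c ^ i), e1, ← map_mul, ← mul_assoc, ← mul_assoc h,
            (show Commute (c ^ i) h from (show Commute c h from hch).pow_left i).eq]
        have hkt : φ t (φ k w) = φ h (φ t w) := by
          rw [hcompose, hcompose, hk]; congr 2; group
        rw [map_mul (φ t), map_inv (φ t), hkt]
        simp only [map_mul (φ (c ^ _ * y)), map_inv (φ (c ^ _ * y)), Finset.prod_mul_distrib,
          Finset.prod_inv_distrib, e, ← map_prod]
        rw [mul_inv_eq_one, Finset.prod_congr rfl (fun i _ => (hcompose (c ^ i) y (φ t w)).symm)]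
        exact hcentr c hc hc1 h hh hch _ (norm_fixed φ (hAexp c hc) _)
      set u := φ k w * w⁻¹ with hudef
      have huU : u ∈ U := U.mul_mem (hUQ k hkQ w hw) (U.inv_mem hw)
      have hu1 : u ≠ 1 := fun e => hwne (mul_inv_eq_one.mp e)
      set d := x⁻¹ * (c * x * c⁻¹) with hddef
      have hdQ : d ∈ Q := Q.mul_mem (Q.inv_mem hx) ((Subgroup.mem_normalizer_iff.mp (hAQ hc) x).mp hx)
      have hd' : φ (t⁻¹ * d * t) u = u := by
        have h1 := congrArg (φ t⁻¹) (hu x hx)
        simp only [hcompose] at h1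
        rwa [inv_mul_cancel, map_one, MulAut.one_apply, ← mul_assoc] at h1
      let U' : Subgroup V :=
        { carrier := {v | v ∈ U ∧ φ (t⁻¹ * d * t) v = v}
          mul_mem' := fun {v v'} hv hv' => ⟨U.mul_mem hv.1 hv'.1, by rw [map_mul, hv.2, hv'.2]⟩
          one_mem' := ⟨U.one_mem, map_one _⟩
          inv_mem' := fun {v} hv => ⟨U.inv_mem hv.1, by rw [map_inv, hv.2]⟩ }
      have hU' : U' = U := Subgroup.eq_of_le_of_card_ge (fun v hv => hv.1)
        (hUmin U' ⟨fun e => hu1 (Subgroup.mem_bot.mp (e ▸ ⟨huU, hd'⟩)), fun y hy v hv =>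
          ⟨hUQ y hy v hv.1, by
            rw [hcompose, map_mul, hQim _ (hconjQ d hdQ) y hy, ← map_mul, ← hcompose, hv.2]⟩⟩)
      exact fun v hv => (hU'.symm ▸ hv : v ∈ U').2
  let G₁ : Subgroup Γ :=
    { carrier := G 1
      mul_mem' := fun {g g'} hg hg' => ⟨mul_mem hg.1 hg'.1, fun x hx v hv => by
        have hx' := (Subgroup.mem_normalizer_iff.mp hg'.1 x).mp hx
        have e : (1 : Γ)⁻¹ * (x⁻¹ * (g * g' * x * (g * g')⁻¹)) * 1 =
            (1⁻¹ * (x⁻¹ * (g' * x * g'⁻¹)) * 1) *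
              (1⁻¹ * ((g' * x * g'⁻¹)⁻¹ * (g * (g' * x * g'⁻¹) * g⁻¹)) * 1) := by group
        rw [e, ← hcompose, hg.2 _ hx' v hv, hg'.2 x hx v hv]⟩
      one_mem' := ⟨one_mem _, fun x hx v hv => by simp⟩
      inv_mem' := fun {g} hg => ⟨inv_mem hg.1, fun x hx v hv => by
        have hx' := (Subgroup.mem_normalizer_iff.mp (inv_mem hg.1) x).mp hx
        have h1 := hg.2 _ hx' v hv
        have e : (1 : Γ)⁻¹ * (x⁻¹ * (g⁻¹ * x * g⁻¹⁻¹)) * 1 =
            (1⁻¹ * ((g⁻¹ * x * g⁻¹⁻¹)⁻¹ * (g * (g⁻¹ * x * g⁻¹⁻¹) * g⁻¹)) * 1)⁻¹ := by group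
        conv_lhs => rw [e, ← h1]
        rw [hcompose, inv_mul_cancel, map_one, MulAut.one_apply]⟩ }
  have hsG : ∀ t ∈ S, ∀ g ∈ G t, t⁻¹ * g * t ∈ G₁ := by
    intro t ht g hg
    refine ⟨mul_mem (mul_mem (inv_mem (hSQ ht)) hg.1) (hSQ ht), fun x hx v hv => ?_⟩
    have h1 := hg.2 (t * x * t⁻¹) ((Subgroup.mem_normalizer_iff.mp (hSQ ht) x).mp hx) v hv
    rwa [show t⁻¹ * ((t * x * t⁻¹)⁻¹ * (g * (t * x * t⁻¹) * g⁻¹)) * t =
      1⁻¹ * (x⁻¹ * ((t⁻¹ * g * t) * x * (t⁻¹ * g * t)⁻¹)) * 1 by group] at h1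
  have hmain : ∀ s ∈ S, s ∈ G₁ := by
    obtain ⟨b, hb, hba, hbG⟩ := hweight 1 S.one_mem
    have hbG1 : b ∈ G₁ := hbG
    have hb1 : b ≠ 1 := fun e => hba (e ▸ one_mem _)
    let f : S → S := fun s => ⟨(s : Γ)⁻¹ * (b * s * b⁻¹), S.mul_mem (S.inv_mem s.2)
      ((Subgroup.mem_normalizer_iff.mp (hAS hb) _).mp s.2)⟩
    have hab : a ∉ Subgroup.zpowers b := by
      intro h
      apply hba
      have hzp : Subgroup.zpowers a = Subgroup.zpowers b := by
        refine Subgroup.eq_of_le_of_card_ge (Subgroup.zpowers_le.mpr h) ?_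
        rw [Nat.card_zpowers, Nat.card_zpowers, orderOf_eq_prime (hAexp a ha) ha1,
          orderOf_eq_prime (hAexp b hb) hb1]
      rw [hzp]
      exact Subgroup.mem_zpowers b
    have hf : Function.Surjective f := by
      refine (Finite.injective_iff_surjective).1 fun s t hst => Subtype.ext ?_
      have h1 : (s : Γ)⁻¹ * (b * s * b⁻¹) = (t : Γ)⁻¹ * (b * t * b⁻¹) := congrArg Subtype.val hst
      have h2 : b * ((s : Γ) * (t : Γ)⁻¹) * b⁻¹ = (s : Γ) * (t : Γ)⁻¹ := by
        rw [show b * ((s : Γ) * (t : Γ)⁻¹) * b⁻¹ = (b * s * b⁻¹) * (b * t * b⁻¹)⁻¹ by group,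
          show b * (s : Γ) * b⁻¹ = s * ((t : Γ)⁻¹ * (b * t * b⁻¹)) by rw [← h1, mul_inv_cancel_left]]
        group
      refine mul_inv_eq_one.mp (hfpfS _ (S.mul_mem s.2 (S.inv_mem t.2)) ?_)
      have hle : A ≤ Subgroup.centralizer ({(s : Γ) * (t : Γ)⁻¹} : Set Γ) := by
        rw [← hgen b hb hb1 a ha hab]
        exact sup_le (Subgroup.zpowers_le.mpr (Subgroup.mem_centralizer_singleton_iff.mpr
          (mul_inv_eq_iff_eq_mul.mp h2))) (Subgroup.zpowers_le.mpr
          (Subgroup.mem_centralizer_singleton_iff.mpr (haS _ (S.mul_mem s.2 (S.inv_mem t.2)))))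
      exact fun g hg => Subgroup.mem_centralizer_singleton_iff.mp (hle hg)
    intro s hs
    obtain ⟨t, ht⟩ := hf ⟨s, hs⟩
    obtain ⟨b', hb', hb'a, hb'G⟩ := hweight t t.2
    have hg := hsG t t.2 b' hb'G
    -- write `b` in terms of `a` and `b'`
    have hbmem : b ∈ Subgroup.zpowers a ⊔ Subgroup.zpowers b' := (hgen a ha ha1 b' hb' hb'a).symm ▸ hb
    haveI : IsMulCommutative A := inferInstance
    obtain ⟨i, j, hij⟩ : ∃ i j : ℤ, b = a ^ i * b' ^ j := by
      have hle : Subgroup.zpowers a ⊔ Subgroup.zpowers b' ≤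
          (({ carrier := {g | g ∈ A ∧ ∃ i j : ℤ, g = a ^ i * b' ^ j}
              mul_mem' := fun {g g'} hg hg' => by
                obtain ⟨hgA, i, j, rfl⟩ := hg
                obtain ⟨hg'A, i', j', rfl⟩ := hg'
                refine ⟨A.mul_mem hgA hg'A, i + i', j + j', ?_⟩
                rw [zpow_add, zpow_add, mul_assoc, ← mul_assoc (b' ^ j),
                  hAmul _ (A.zpow_mem hb' j) _ (A.zpow_mem ha i')]
                group
              one_mem' := ⟨A.one_mem, 0, 0, by simp⟩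
              inv_mem' := fun {g} hg => by
                obtain ⟨hgA, i, j, rfl⟩ := hg
                refine ⟨A.inv_mem hgA, -i, -j, ?_⟩
                rw [mul_inv_rev, hAmul _ (A.inv_mem (A.zpow_mem hb' j)) _ (A.inv_mem (A.zpow_mem ha i))]
                group } : Subgroup Γ)) :=
        sup_le (Subgroup.zpowers_le.mpr ⟨ha, 1, 0, by simp⟩)
          (Subgroup.zpowers_le.mpr ⟨hb', 0, 1, by simp⟩)
      exact (hle hbmem).2
    have hcomma : Commute a ((t : Γ)) := haS t t.2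
    have e : (f t : Γ) = a ^ i * (((t : Γ)⁻¹ * b' * t) ^ j) * b⁻¹ := by
      show (t : Γ)⁻¹ * (b * t * b⁻¹) = _
      have hz : ((t : Γ)⁻¹ * b' * t) ^ j = (t : Γ)⁻¹ * b' ^ j * t := by
        simpa using (conj_zpow (a := (t : Γ)⁻¹) (b := b') (i := j))
      rw [hz]
      calc (t : Γ)⁻¹ * (b * t * b⁻¹) = (t : Γ)⁻¹ * (a ^ i * b' ^ j) * t * b⁻¹ := by
            rw [← hij]; group
        _ = ((t : Γ)⁻¹ * a ^ i) * b' ^ j * t * b⁻¹ := by group
        _ = (a ^ i * (t : Γ)⁻¹) * b' ^ j * t * b⁻¹ := by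
            rw [((hcomma.inv_right).zpow_left i).eq]
        _ = a ^ i * ((t : Γ)⁻¹ * b' ^ j * t) * b⁻¹ := by group
    rw [ht] at e
    change s = _ at e
    have hrest : (((t : Γ)⁻¹ * b' * t) ^ j) * b⁻¹ ∈ G₁ :=
      G₁.mul_mem (G₁.zpow_mem hg j) (G₁.inv_mem hbG1)
    have hmem : a ^ (-i) * s ∈ G₁ := by
      have e' : a ^ (-i) * s = (((t : Γ)⁻¹ * b' * t) ^ j) * b⁻¹ := by
        rw [e, zpow_neg]; group
      rwa [e']
    -- raise to the order of `S`
    have hpow : (a ^ (-i)) ^ Nat.card S ∈ G₁ := by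
      have hc : Commute (a ^ (-i)) s := (show Commute a s from haS s hs).zpow_left _
      have h1 := G₁.pow_mem hmem (Nat.card S)
      have hs' : s ^ Nat.card S = 1 :=
        congrArg Subtype.val (pow_card_eq_one' (G := S) (x := ⟨s, hs⟩))
      rwa [hc.mul_pow, hs', mul_one] at h1
    have hai : a ^ (-i) ∈ G₁ := by
      obtain ⟨k, hk⟩ := Nat.exists_mul_mod_eq_one_of_coprime hSp hp.one_lt
      have h2 : ((a ^ (-i)) ^ Nat.card S) ^ k = a ^ (-i) := by
        rw [← pow_mul, pow_eq_pow_mod _ (hAexp _ (A.zpow_mem ha _)), hk.2, pow_one]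
      rw [← h2]; exact G₁.pow_mem hpow k
    have h3 := G₁.mul_mem (G₁.inv_mem hai) hmem
    rwa [inv_mul_cancel_left] at h3
  apply hUQne
  intro x hx v hv
  let K1 : Subgroup Γ :=
    { carrier := {x | x ∈ Q ∧ ∀ v ∈ U, φ x v = v}
      mul_mem' := fun {x y} hx hy => ⟨Q.mul_mem hx.1 hy.1, fun v hv => by
        rw [← hcompose, hy.2 v hv, hx.2 v hv]⟩
      one_mem' := ⟨Q.one_mem, fun v _ => by simp⟩
      inv_mem' := fun {x} hx => ⟨Q.inv_mem hx.1, fun v hv => by
        conv_lhs => rw [← hx.2 v hv]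
        rw [hcompose, inv_mul_cancel, map_one, MulAut.one_apply]⟩ }
  have hle : ⁅Q, S⁆ ≤ K1 := Subgroup.commutator_le.mpr fun y hy s hs => by
    have hy' := Q.inv_mem hy
    refine ⟨?_, fun w hw => ?_⟩
    · rw [commutatorElement_def, mul_assoc, mul_assoc, ← mul_assoc s]
      exact Q.mul_mem hy ((Subgroup.mem_normalizer_iff.mp (hSQ hs) y⁻¹).mp hy')
    · have h1 := (hmain s hs).2 y⁻¹ hy' w hw
      rwa [show (1 : Γ)⁻¹ * (y⁻¹⁻¹ * (s * y⁻¹ * s⁻¹)) * 1 = ⁅y, s⁆ by
        rw [commutatorElement_def]; group] at h1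
  rw [hQS] at hle
  exact (hle hx).2 v hv

end CfsgLib.Ward
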