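import Mathlib
import Cfsg.Agent.Lib.Ward.Module
import Cfsg.Agent.Lib.Ward.Criterion
import Cfsg.Agent.Lib.Coprime.Action
import Cfsg.Agent.Lib.Base.ThompsonFPF
import Cfsg.Agent.Lib.OddOrder.FittingHall

/-!
# Ward's theorem, the linear case
-/

set_option linter.style.haveILetI false
set_option autoImplicit false

namespace CfsgLib.Ward

open Cfsg
open scoped commutatorElement

universe u v

variable {Γ : Type u} {V : Type v} [Group Γ] [Finite Γ] [CommGroup V] [Finite V]

/-- A solvable group with an elementary group of order `p ^ 2` of operators, acting faithfully and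
irreducibly (with the operators) without common fixed points, is nilpotent. -/
theorem isNilpotent_linear (φ : Γ →* MulAut V) {p r : ℕ} (hp : p.Prime) (hr : r.Prime)
    (A L : Subgroup Γ) [IsMulCommutative A] (hAexp : ∀ b ∈ A, b ^ p = 1)
    (hAcard : Nat.card A = p ^ 2) (hAL : A ≤ Subgroup.normalizer (L : Set Γ))
    (hL : Group.IsSolvable L) (hLp : (Nat.card L).Coprime p) [Nontrivial V] (hV : IsPGroup r V)
    (hVp : (Nat.card V).Coprime p) (hinj : ∀ x ∈ L, φ x = 1 → x = 1)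
    (hfpfV : ∀ v : V, (∀ b ∈ A, φ b v = v) → v = 1)
    (hfpfL : ∀ x ∈ L, (∀ b ∈ A, b * x = x * b) → x = 1)
    (hirr : ∀ W : Subgroup V, (∀ g, g ∈ A ∨ g ∈ L → ∀ v ∈ W, φ g v ∈ W) → W = ⊥ ∨ W = ⊤) :
    Group.IsNilpotent L := by
  classical
  haveI := Fintype.ofFinite Γ
  haveI := Fact.mk hp
  haveI := Fact.mk hr
  haveI := hL
  have hcompose : ∀ (a b : Γ) (v : V), φ a (φ b v) = φ (a * b) v := fun a b v => by
    rw [map_mul, MulAut.mul_apply]
  have hAmul : ∀ b ∈ A, ∀ c ∈ A, b * c = c * b := fun b hb c hc =>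
    congrArg Subtype.val ((IsMulCommutative.is_comm (M := A)).comm ⟨b, hb⟩ ⟨c, hc⟩)
  have hAnc : ¬ IsCyclic A := by
    intro hcyc
    obtain ⟨g, hg⟩ := IsCyclic.exists_ofOrder_eq_natCard (α := A)
    have h1 : orderOf g ∣ p := orderOf_dvd_of_pow_eq_one (Subtype.ext (by simpa using hAexp g g.2))
    rw [hg, hAcard] at h1
    have h2 := Nat.le_of_dvd hp.pos h1
    nlinarith [hp.two_le]
  have hAsolv : Group.IsSolvable A :=
    Group.isSolvable_of_comm fun a b => (IsMulCommutative.is_comm (M := A)).comm a b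
  have hrV : r ∣ Nat.card V := by
    obtain ⟨k, hk⟩ := IsPGroup.iff_card.mp hV
    rcases k with _ | k
    · have := Finite.one_lt_card (α := V)
      rw [hk, pow_zero] at this
      exact absurd this (lt_irrefl 1)
    · rw [hk]; exact dvd_pow_self r k.succ_ne_zero
  -- the normal `r`-subgroup of `L` is trivial
  have hcoreA : ∀ q : ℕ, A ≤ Subgroup.normalizer (((pCore q L).map L.subtype : Subgroup Γ) : Set Γ) :=
    fun q => hAL.trans (CfsgLib.Base.normalizer_le_normalizer_map_subtype L (pCore q L))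
  have hcoreL : ∀ q : ℕ, L ≤ Subgroup.normalizer (((pCore q L).map L.subtype : Subgroup Γ) : Set Γ) :=
    fun q => Subgroup.le_normalizer.trans (CfsgLib.Base.normalizer_le_normalizer_map_subtype L (pCore q L))
  have hOr : pCore r L = ⊥ := by
    set R := (pCore r L).map L.subtype with hR
    have hRp : IsPGroup r R := CfsgLib.Base.isPGroup_map_pCore r L
    letI : MulAction R V :=
      { smul := fun a v => φ (a : Γ) v
        one_smul := fun v => by
          show φ ((1 : R) : Γ) v = v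
          rw [OneMemClass.coe_one, map_one, MulAut.one_apply]
        mul_smul := fun a b v => (hcompose a b v).symm }
    obtain ⟨v, hv, hv1⟩ := hRp.exists_fixed_point_of_prime_dvd_card_of_fixed_point V hrV
      (a := (1 : V)) (fun a => map_one (φ (a : Γ)))
    let F : Subgroup V :=
      { carrier := {v | ∀ g ∈ R, φ g v = v}
        mul_mem' := fun {u w} hu hw g hg => by rw [map_mul, hu g hg, hw g hg]
        one_mem' := fun g _ => map_one _
        inv_mem' := fun {u} hu g hg => by rw [map_inv, hu g hg] }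
    rcases hirr F (fun g hg w hw x hx => by
      have hgN : g ∈ Subgroup.normalizer (R : Set Γ) := hg.elim (fun h => hcoreA r h) (fun h => hcoreL r h)
      have hmem : g⁻¹ * x * g ∈ R := by
        simpa using (Subgroup.mem_normalizer_iff.mp (inv_mem hgN) x).mp hx
      rw [hcompose, show x * g = g * (g⁻¹ * x * g) by group, ← hcompose, hw _ hmem]) with h | h
    · have hvF : v ∈ F := fun g hg => hv ⟨g, hg⟩
      rw [h, Subgroup.mem_bot] at hvF
      exact absurd hvF.symm hv1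
    · rw [eq_bot_iff]
      intro x hx
      refine Subgroup.mem_bot.mpr (Subtype.ext (hinj x x.2 (MulEquiv.ext fun w => ?_)))
      have hwF : w ∈ F := h ▸ Subgroup.mem_top w
      exact hwF x ⟨x, hx, rfl⟩
  refine isNilpotent_of_centralizes_cores fun s q hs hq hqs x hx => ?_
  by_contra hxC
  haveI := Fact.mk hs
  haveI := Fact.mk hq
  set Oq := (pCore q L).map L.subtype with hOq
  have hOqne : pCore q L ≠ ⊥ := by
    intro h
    apply hxC
    rw [h, Subgroup.mem_centralizer_iff]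
    intro z hz
    rw [SetLike.mem_coe, Subgroup.mem_bot] at hz
    rw [hz, one_mul, mul_one]
  have hqr : q ≠ r := fun h => hOqne (by rw [h]; exact hOr)
  have hOqp : IsPGroup q Oq := CfsgLib.Base.isPGroup_map_pCore q L
  have hqdvd : q ∣ Nat.card L := by
    obtain ⟨k, hk⟩ := IsPGroup.iff_card.mp (CfsgLib.Base.isPGroup_pCore q L)
    rcases k with _ | k
    · exact absurd (Subgroup.eq_bot_of_card_eq _ (by rw [hk, pow_zero])) hOqne
    · exact (dvd_pow_self q k.succ_ne_zero).trans (hk ▸ Subgroup.card_subgroup_dvd_card _)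
  have hpq : p ≠ q := fun h => hp.ne_one (Nat.eq_one_of_dvd_coprimes hLp (h ▸ hqdvd) dvd_rfl)
  have hcopA : ∀ K : Subgroup Γ, K ≤ L → (Nat.card A).Coprime (Nat.card K) := fun K hK => by
    rw [hAcard]
    exact Nat.Coprime.pow_left 2 (hLp.coprime_dvd_left (Subgroup.card_dvd_of_le hK)).symm
  -- an invariant Sylow subgroup moving `Oq`
  obtain ⟨P, hP⟩ := CfsgLib.Coprime.exists_invariant_sylow (p := s) hAL (hcopA L le_rfl) (Or.inl hAsolv)
  set S := (P : Subgroup L).map L.subtype with hS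
  have hPC : ¬ (P : Subgroup L) ≤ Subgroup.centralizer (pCore q L : Set L) := by
    intro hle
    apply hxC
    obtain ⟨k, hk⟩ := hx
    have hxp : IsPGroup s (Subgroup.zpowers x) := IsPGroup.iff_card.mpr ⟨k, by rw [Nat.card_zpowers, hk]⟩
    obtain ⟨P', hP'⟩ := hxp.exists_le_sylow
    obtain ⟨g, hg⟩ := MulAction.exists_smul_eq L P P'
    have hx' := hP' (Subgroup.mem_zpowers x)
    rw [← hg] at hx'
    obtain ⟨y, hy, rfl⟩ := hx'
    haveI : (pCore q L).Normal := pCore_normal q L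
    exact (inferInstance : (Subgroup.centralizer (pCore q L : Set L)).Normal).conj_mem y (hle hy) g
  have hsdvd : s ∣ Nat.card L := by
    obtain ⟨k, hk⟩ := IsPGroup.iff_card.mp P.isPGroup'
    rcases k with _ | k
    · exact absurd ((Subgroup.eq_bot_of_card_eq _ (by rw [hk, pow_zero])).le.trans bot_le) hPC
    · exact (dvd_pow_self s k.succ_ne_zero).trans (hk ▸ Subgroup.card_subgroup_dvd_card _)
  have hps : p ≠ s := fun h => hp.ne_one (Nat.eq_one_of_dvd_coprimes hLp (h ▸ hsdvd) dvd_rfl)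
  have hSC : ¬ S ≤ Subgroup.centralizer (Oq : Set Γ) := by
    intro hle
    apply hPC
    intro y hy
    rw [Subgroup.mem_centralizer_iff]
    intro z hz
    exact Subtype.ext (Subgroup.mem_centralizer_iff.mp (hle ⟨y, hy, rfl⟩) z ⟨z, hz, rfl⟩)
  obtain ⟨a, ha, ha1, haS⟩ : ∃ a ∈ A, a ≠ 1 ∧
      ¬ (S ⊓ Subgroup.centralizer {a}) ≤ Subgroup.centralizer (Oq : Set Γ) := by
    by_contra hcon
    push Not at hcon
    exact hSC (CfsgLib.Coprime.le_of_centralizer_le_of_not_isCyclic hAnc hP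
      (hcopA S (Subgroup.map_subtype_le _)) hcon)
  set S0 := S ⊓ Subgroup.centralizer ({a} : Set Γ) with hS0
  have hS0L : S0 ≤ L := inf_le_left.trans (Subgroup.map_subtype_le _)
  have hS0s : IsPGroup s S0 := (P.isPGroup'.map _).to_le inf_le_left
  have hAC : A ≤ Subgroup.normalizer ((Subgroup.centralizer ({a} : Set Γ) : Subgroup Γ) : Set Γ) :=
    fun b hb => Subgroup.le_normalizer (Subgroup.mem_centralizer_singleton_iff.mpr (hAmul b hb a ha))
  have hAS0 : A ≤ Subgroup.normalizer (S0 : Set Γ) := CfsgLib.Coprime.le_normalizer_inf_inf hP hAC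
  have hS0comm : ∀ y ∈ S0, a * y = y * a := fun y hy =>
    (Subgroup.mem_centralizer_singleton_iff.mp hy.2).symm
  -- the centralizer of `a` in `L` is nilpotent
  have hCnil : ∀ y z : Γ, y ∈ L → z ∈ L → a * y = y * a → a * z = z * a →
      (orderOf y).Coprime (orderOf z) → y * z = z * y := by
    intro y z hy hz hay haz hcop
    set C := L ⊓ Subgroup.centralizer ({a} : Set Γ) with hC
    have hAC' : A ≤ Subgroup.normalizer (C : Set Γ) := CfsgLib.Coprime.le_normalizer_inf_inf hAL hAC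
    obtain ⟨b, hb, hba⟩ : ∃ b ∈ A, b ∉ Subgroup.zpowers a := by
      by_contra h
      push Not at h
      exact hAnc (isCyclic_of_injective (Subgroup.inclusion (h : A ≤ Subgroup.zpowers a))
        (Subgroup.inclusion_injective _))
    have hmap : C.map (MulAut.conj b).toMonoidHom = C := CfsgLib.Base.map_conj_eq_self_iff.2 (hAC' hb)
    have hgen : Subgroup.zpowers a ⊔ Subgroup.zpowers b = A := by
      set B := Subgroup.zpowers a ⊔ Subgroup.zpowers b with hB
      have hle : B ≤ A := sup_le (Subgroup.zpowers_le.mpr ha) (Subgroup.zpowers_le.mpr hb)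
      refine Subgroup.eq_of_le_of_card_ge hle ?_
      obtain ⟨j, hj2, hjc⟩ := (Nat.dvd_prime_pow hp).mp (hAcard ▸ Subgroup.card_dvd_of_le hle)
      rw [hAcard, hjc]
      refine Nat.pow_le_pow_right hp.pos ?_
      by_contra hlt
      push Not at hlt
      have h1 : Nat.card B ≤ Nat.card (Subgroup.zpowers a) := by
        rw [Nat.card_zpowers, orderOf_eq_prime (hAexp a ha) ha1, hjc]
        exact (Nat.pow_le_pow_right hp.pos (by omega : j ≤ 1)).trans_eq (pow_one p)
      have h2 := Subgroup.eq_of_le_of_card_ge (le_sup_left : Subgroup.zpowers a ≤ B) h1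
      exact hba (h2 ▸ Subgroup.mem_sup_right (Subgroup.mem_zpowers b))
    have hnil : Group.IsNilpotent C := by
      refine CfsgLib.Base.isNilpotent_of_fixedPointFree
        (CfsgLib.Base.FPFAut.restrict (MulAut.conj b) hmap) ?_ hp
        (CfsgLib.Base.FPFAut.restrict_pow_eq_one hmap (by rw [← map_pow, hAexp b hb, map_one]))
      intro w hw
      refine Subtype.ext (hfpfL w w.2.1 fun g hg => ?_)
      have hbw : b * (w : Γ) * b⁻¹ = w := congrArg Subtype.val hw
      have hle : A ≤ Subgroup.centralizer ({(w : Γ)} : Set Γ) := by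
        rw [← hgen]
        exact sup_le (Subgroup.zpowers_le.mpr (Subgroup.mem_centralizer_singleton_iff.mpr
          (Subgroup.mem_centralizer_singleton_iff.mp w.2.2).symm))
          (Subgroup.zpowers_le.mpr (Subgroup.mem_centralizer_singleton_iff.mpr
            (mul_inv_eq_iff_eq_mul.mp hbw)))
      exact Subgroup.mem_centralizer_singleton_iff.mp (hle hg)
    have h := CfsgLib.OddOrder.commute_of_coprime_aux (N := C)
      (a := ⟨y, hy, Subgroup.mem_centralizer_singleton_iff.mpr hay.symm⟩)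
      (b := ⟨z, hz, Subgroup.mem_centralizer_singleton_iff.mpr haz.symm⟩)
      (by rw [← Subgroup.orderOf_coe, ← Subgroup.orderOf_coe]; exact hcop)
    exact congrArg Subtype.val h.eq
  -- a minimal moved invariant subgroup
  obtain ⟨Q, ⟨hQle, hQA, hQS, hQne⟩, hQmin⟩ := Set.exists_min_image
    {U : Subgroup Γ | U ≤ Oq ∧ A ≤ Subgroup.normalizer (U : Set Γ) ∧
      S0 ≤ Subgroup.normalizer (U : Set Γ) ∧ ⁅U, S0⁆ ≠ ⊥} (fun U => Nat.card U) (Set.toFinite _)
    ⟨Oq, le_rfl, hcoreA q, hS0L.trans (hcoreL q), fun h => haS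
      ((CfsgLib.Base.le_centralizer_comm).mp (Subgroup.commutator_eq_bot_iff_le_centralizer.mp h))⟩
  have hQproper : ∀ U : Subgroup Γ, U ≤ Q → A ≤ Subgroup.normalizer (U : Set Γ) →
      S0 ≤ Subgroup.normalizer (U : Set Γ) → ⁅U, S0⁆ ≠ ⊥ → U = Q := fun U h1 h2 h3 h4 =>
    Subgroup.eq_of_le_of_card_ge h1 (hQmin U ⟨h1.trans hQle, h2, h3, h4⟩)
  have hQL : Q ≤ L := hQle.trans (Subgroup.map_subtype_le _)
  have hQp : IsPGroup q Q := hOqp.to_le hQle
  have hsq : ∀ {m n : ℕ}, Nat.Coprime (s ^ m) (q ^ n) := fun {m n} =>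
    Nat.Coprime.pow m n ((Nat.coprime_primes hs hq).mpr (Ne.symm hqs))
  obtain ⟨mS, hmS⟩ := IsPGroup.iff_card.mp hS0s
  obtain ⟨mQ, hmQ⟩ := IsPGroup.iff_card.mp hQp
  have hS0Q : (Nat.card S0).Coprime (Nat.card Q) := by rw [hmS, hmQ]; exact hsq
  have hQS0Q : ⁅Q, S0⁆ ≤ Q := CfsgLib.Coprime.commutator_le_of_le_normalizer hQS
  have hQeq : ⁅Q, S0⁆ = Q := by
    refine hQproper _ hQS0Q ?_ (Subgroup.normalizer_commutator_ge_right Q S0) ?_
    · intro g hg
      rw [← CfsgLib.Base.map_conj_eq_self_iff, Subgroup.map_commutator,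
        CfsgLib.Base.map_conj_eq_self_iff.2 (hQA hg), CfsgLib.Base.map_conj_eq_self_iff.2 (hAS0 hg)]
    · rw [CfsgLib.Coprime.commutator_commutator_eq hQS hS0Q (Or.inl (haveI := hS0s.isNilpotent; inferInstance))]
      exact hQne
  -- `a` moves `Q`
  have hQaS : ∀ y ∈ Q, a * y = y * a → ∀ t ∈ S0, t * y = y * t := by
    set U := Q ⊓ Subgroup.centralizer ({a} : Set Γ) with hU
    have hUA : A ≤ Subgroup.normalizer (U : Set Γ) := CfsgLib.Coprime.le_normalizer_inf_inf hQA hAC
    have hUS : S0 ≤ Subgroup.normalizer (U : Set Γ) :=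
      CfsgLib.Coprime.le_normalizer_inf_inf hQS (inf_le_right.trans Subgroup.le_normalizer)
    by_contra hcon
    push Not at hcon
    obtain ⟨y, hy, hay, t, ht, hne⟩ := hcon
    have hUeq : U = Q := hQproper U inf_le_left hUA hUS fun h0 => hne
      ((Subgroup.mem_centralizer_iff.mp ((Subgroup.commutator_eq_bot_iff_le_centralizer.mp h0)
        (⟨hy, Subgroup.mem_centralizer_singleton_iff.mpr hay.symm⟩ : y ∈ U))) t ht)
    refine hne (hCnil t y (hS0L ht) (hQL hy) (hS0comm t ht) hay ?_)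
    exact (hS0Q.coprime_dvd_left (Subgroup.orderOf_dvd_natCard S0 ht)).coprime_dvd_right
      (Subgroup.orderOf_dvd_natCard Q hy)
  -- the derived subgroup of `Q` is central
  haveI := hQp.isNilpotent
  have hQne' : Q ≠ ⊥ := fun h => hQne (by rw [h, Subgroup.commutator_bot_left])
  have hlt : ⁅Q, Q⁆ < Q := CfsgLib.Base.commutator_self_lt_of_isSolvable hQne' inferInstance
  have hnormQQ : Subgroup.normalizer (Q : Set Γ) ≤ Subgroup.normalizer ((⁅Q, Q⁆ : Subgroup Γ) : Set Γ) := by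
    intro g hg
    rw [← CfsgLib.Base.map_conj_eq_self_iff, Subgroup.map_commutator,
      CfsgLib.Base.map_conj_eq_self_iff.2 hg]
  have hQ'S0 : ⁅⁅Q, Q⁆, S0⁆ = ⊥ := by
    by_contra h
    exact hlt.ne (hQproper _ hlt.le (hQA.trans hnormQQ) (hQS.trans hnormQQ) h)
  have hQ'Q : ⁅Q, ⁅Q, Q⁆⁆ = ⊥ := by
    have h1 : ⁅⁅Q, S0⁆, ⁅Q, Q⁆⁆ = ⊥ := by
      refine Subgroup.commutator_commutator_eq_bot_of_rotate ?_ ?_
      · rw [Subgroup.commutator_comm S0, hQ'S0, Subgroup.commutator_bot_left]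
      · exact le_bot_iff.mp ((Subgroup.commutator_mono (CfsgLib.Coprime.commutator_le_of_le_normalizer
          (Subgroup.le_normalizer.trans hnormQQ)) le_rfl).trans_eq hQ'S0)
    rwa [hQeq] at h1
  have hQ'S : ∀ z ∈ ⁅Q, Q⁆, ∀ y, y ∈ Q ∨ y ∈ S0 → y * z = z * y := by
    intro z hz y hy
    rcases hy with hy | hy
    · exact (Subgroup.mem_centralizer_iff.mp
        ((Subgroup.commutator_eq_bot_iff_le_centralizer.mp hQ'Q) hy) z hz).symm
    · exact Subgroup.mem_centralizer_iff.mp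
        ((Subgroup.commutator_eq_bot_iff_le_centralizer.mp hQ'S0) hz) y hy
  -- a minimal submodule moved by `Q`
  obtain ⟨y₀, hy₀, hy₀1⟩ := (Subgroup.bot_or_exists_ne_one Q).resolve_left hQne'
  obtain ⟨W, ⟨hWinv, hWne⟩, hWmin⟩ := Set.exists_min_image
    {W : Subgroup V | (∀ g, g ∈ A ∨ g ∈ Q ∨ g ∈ S0 → ∀ v ∈ W, φ g v ∈ W) ∧
      ∃ y ∈ Q, ∃ v ∈ W, φ y v ≠ v} (fun W => Nat.card W) (Set.toFinite _)
    ⟨⊤, fun g _ v _ => Subgroup.mem_top _, y₀, hy₀, by
      by_contra h
      push Not at h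
      exact hy₀1 (hinj y₀ (hQL hy₀) (MulEquiv.ext fun v => h v (Subgroup.mem_top v)))⟩
  have hVq : (Nat.card V).Coprime q := by
    obtain ⟨k, hk⟩ := IsPGroup.iff_card.mp hV
    rw [hk]
    exact Nat.Coprime.pow_left k ((Nat.coprime_primes hr hq).mpr (Ne.symm hqr))
  have hWfree : ∀ v ∈ W, (∀ y ∈ Q, φ y v = v) → v = 1 := by
    let N : V →* V :=
      { toFun := fun v => ∏ y : Q, φ (y : Γ) v
        map_one' := by simp
        map_mul' := fun u v => by simp [map_mul, Finset.prod_mul_distrib] }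
    have hNfix : ∀ v, ∀ y ∈ Q, φ y (N v) = N v := fun v y hy => by
      show φ y (∏ z : Q, φ (z : Γ) v) = _
      rw [map_prod]
      exact Fintype.prod_equiv (Equiv.mulLeft (⟨y, hy⟩ : Q)) _ _ fun z => hcompose y (z : Γ) v
    have hN1 : ∀ v, (∀ y ∈ Q, φ y v = v) → N v = 1 → v = 1 := by
      intro v hv hNv
      have h1 : ∏ y : Q, φ (y : Γ) v = 1 := hNv
      rw [Finset.prod_congr rfl (fun (y : Q) _ => hv (y : Γ) y.2), Finset.prod_const, Finset.card_univ,
        ← Nat.card_eq_fintype_card, hmQ] at h1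
      rw [← orderOf_eq_one_iff]
      exact Nat.eq_one_of_dvd_coprimes (hVq.pow_right mQ) (orderOf_dvd_natCard v)
        (orderOf_dvd_of_pow_eq_one h1)
    have hK : W ⊓ N.ker = W := by
      by_contra hne
      have hKinv : ∀ g, g ∈ A ∨ g ∈ Q ∨ g ∈ S0 → ∀ v ∈ W ⊓ N.ker, φ g v ∈ W ⊓ N.ker := by
        intro g hg v hv
        refine ⟨hWinv g hg v hv.1, ?_⟩
        have hgN : g⁻¹ ∈ Subgroup.normalizer (Q : Set Γ) := inv_mem (by
          rcases hg with h | h | h
          exacts [hQA h, Subgroup.le_normalizer h, hQS h])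
        let e : Q ≃ Q :=
          { toFun := fun y => ⟨g⁻¹ * y * g⁻¹⁻¹, (Subgroup.mem_normalizer_iff.mp hgN y).mp y.2⟩
            invFun := fun y => ⟨g * y * g⁻¹,
              (Subgroup.mem_normalizer_iff.mp (show g ∈ Subgroup.normalizer (Q : Set Γ) by simpa using inv_mem hgN) y).mp y.2⟩
            left_inv := fun y => Subtype.ext (by group)
            right_inv := fun y => Subtype.ext (by group) }
        show (∏ y : Q, φ (y : Γ) (φ g v)) = 1
        have h1 : (∏ y : Q, φ (y : Γ) (φ g v)) = φ g (∏ y : Q, φ (y : Γ) v) := by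
          rw [map_prod]
          refine Fintype.prod_equiv e _ _ fun y => ?_
          show φ (y : Γ) (φ g v) = φ g (φ (g⁻¹ * (y : Γ) * g⁻¹⁻¹) v)
          rw [hcompose, hcompose]
          congr 2
          group
        rw [h1, show (∏ y : Q, φ (y : Γ) v) = 1 from hv.2, map_one]
      have hfixed : ∀ v ∈ W ⊓ N.ker, ∀ y ∈ Q, φ y v = v := by
        intro v hv y hy
        by_contra hmoved
        exact hne (Subgroup.eq_of_le_of_card_ge inf_le_left
          (hWmin _ ⟨hKinv, y, hy, v, hv, hmoved⟩))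
      have hinjN : Function.Injective (fun w : W => (⟨N w, by
          show (∏ y : Q, φ (y : Γ) (w : V)) ∈ W
          exact W.prod_mem fun y _ => hWinv y (Or.inr (Or.inl y.2)) w w.2⟩ : W)) := by
        intro u w huw
        have h1 : N ((u : V) * (w : V)⁻¹) = 1 := by
          rw [map_mul, map_inv, mul_inv_eq_one]
          exact congrArg Subtype.val huw
        have hmem : (u : V) * (w : V)⁻¹ ∈ W ⊓ N.ker := ⟨W.mul_mem u.2 (W.inv_mem w.2), h1⟩
        exact Subtype.ext (mul_inv_eq_one.mp (hN1 _ (hfixed _ hmem) h1))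
      obtain ⟨y, hy, v, hv, hmoved⟩ := hWne
      obtain ⟨u, hu⟩ := (Finite.injective_iff_surjective.mp hinjN) ⟨v, hv⟩
      have hu' : N u = v := congrArg Subtype.val hu
      exact hmoved (hu' ▸ hNfix u y hy)
    intro v hv hfix
    have hv' : v ∈ W ⊓ N.ker := hK.symm ▸ hv
    exact hN1 v hfix hv'.2
  haveI : Nontrivial W := by
    obtain ⟨y, hy, v, hv, hne⟩ := hWne
    exact ⟨⟨⟨v, hv⟩, 1, fun e => hne (by rw [show v = 1 from congrArg Subtype.val e, map_one])⟩⟩
  -- restrict the action to `W`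
  let Δ : Subgroup Γ :=
    { carrier := {g | (∀ v ∈ W, φ g v ∈ W) ∧ ∀ v ∈ W, φ g⁻¹ v ∈ W}
      mul_mem' := fun {g g'} hg hg' => ⟨fun v hv => by
          rw [← hcompose]; exact hg.1 _ (hg'.1 v hv), fun v hv => by
          rw [mul_inv_rev, ← hcompose]; exact hg'.2 _ (hg.2 v hv)⟩
      one_mem' := ⟨fun v hv => by rwa [map_one, MulAut.one_apply], fun v hv => by
        rwa [inv_one, map_one, MulAut.one_apply]⟩
      inv_mem' := fun {g} hg => ⟨hg.2, by rw [inv_inv]; exact hg.1⟩ }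
  have hmemΔ : ∀ g, g ∈ A ∨ g ∈ Q ∨ g ∈ S0 → g ∈ Δ := fun g hg => ⟨hWinv g hg, hWinv g⁻¹ (by
    rcases hg with h | h | h
    exacts [Or.inl (A.inv_mem h), Or.inr (Or.inl (Q.inv_mem h)), Or.inr (Or.inr (S0.inv_mem h))])⟩
  have hAΔ : A ≤ Δ := fun g h => hmemΔ g (Or.inl h)
  have hQΔ : Q ≤ Δ := fun g h => hmemΔ g (Or.inr (Or.inl h))
  have hSΔ : S0 ≤ Δ := fun g h => hmemΔ g (Or.inr (Or.inr h))
  let ψ : Δ →* MulAut W :=
    { toFun := fun g =>
        { toFun := fun w => ⟨φ (g : Γ) w, g.2.1 w w.2⟩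
          invFun := fun w => ⟨φ (g : Γ)⁻¹ w, g.2.2 w w.2⟩
          left_inv := fun w => Subtype.ext (by
            show φ (g : Γ)⁻¹ (φ (g : Γ) w) = w
            rw [hcompose, inv_mul_cancel, map_one, MulAut.one_apply])
          right_inv := fun w => Subtype.ext (by
            show φ (g : Γ) (φ (g : Γ)⁻¹ w) = w
            rw [hcompose, mul_inv_cancel, map_one, MulAut.one_apply])
          map_mul' := fun u w => Subtype.ext (map_mul (φ (g : Γ)) _ _) }
      map_one' := MulEquiv.ext fun w => Subtype.ext (by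
        show φ ((1 : Δ) : Γ) w = w
        rw [OneMemClass.coe_one, map_one, MulAut.one_apply])
      map_mul' := fun g g' => MulEquiv.ext fun w => Subtype.ext (hcompose g g' w).symm }
  have hnorm : ∀ {X Y : Subgroup Γ}, X ≤ Subgroup.normalizer (Y : Set Γ) →
      X.subgroupOf Δ ≤ Subgroup.normalizer ((Y.subgroupOf Δ : Subgroup Δ) : Set Δ) := by
    intro X Y h g hg
    rw [Subgroup.mem_normalizer_iff]
    exact fun w => Subgroup.mem_normalizer_iff.mp (h hg) w
  have hcardΔ : ∀ {X : Subgroup Γ}, X ≤ Δ → Nat.card (X.subgroupOf Δ) = Nat.card X :=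
    fun h => CfsgLib.Base.card_subgroupOf h
  have hcommΔ : ∀ {X Y : Subgroup Γ}, X ≤ Δ → Y ≤ Δ →
      (⁅X.subgroupOf Δ, Y.subgroupOf Δ⁆).map Δ.subtype = ⁅X, Y⁆ := by
    intro X Y hX hY
    rw [Subgroup.map_commutator, Subgroup.map_subgroupOf_eq_of_le hX,
      Subgroup.map_subgroupOf_eq_of_le hY]
  haveI : IsMulCommutative (A.subgroupOf Δ) :=
    ⟨⟨fun b c => Subtype.ext (Subtype.ext (hAmul _ b.2 _ c.2))⟩⟩
  haveI : Finite W := inferInstance
  refine no_configuration (V := W) ψ hp hq hpq (A.subgroupOf Δ) (Q.subgroupOf Δ) (S0.subgroupOf Δ)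
    (fun b hb => Subtype.ext (hAexp b hb)) (by rw [hcardΔ hAΔ, hAcard]) (hnorm hQA) (hnorm hAS0)
    (hnorm hQS) (hQp.of_equiv (Subgroup.subgroupOfEquivOfLe hQΔ).symm)
    (hVq.coprime_dvd_left (Subgroup.card_subgroup_dvd_card W))
    (by rw [hcardΔ hSΔ, hmS]; exact Nat.Coprime.pow_left _ ((Nat.coprime_primes hs hq).mpr (Ne.symm hqs)))
    (by rw [hcardΔ hSΔ, hmS]; exact Nat.Coprime.pow_left _ ((Nat.coprime_primes hs hp).mpr (Ne.symm hps)))
    (hVp.coprime_dvd_left (Subgroup.card_subgroup_dvd_card W))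
    (fun w hw => Subtype.ext (hfpfV w fun b hb => congrArg Subtype.val (hw ⟨b, hAΔ hb⟩ hb)))
    (fun x hx hall => Subtype.ext (hfpfL x (hQL hx) fun b hb => congrArg Subtype.val (hall ⟨b, hAΔ hb⟩ hb)))
    (fun x hx hall => Subtype.ext (hfpfL x (hS0L hx) fun b hb => congrArg Subtype.val (hall ⟨b, hAΔ hb⟩ hb)))
    (a := ⟨a, hAΔ ha⟩) ha (fun e => ha1 (congrArg Subtype.val e))
    (fun t ht => Subtype.ext (hS0comm t ht)) ?_
    (fun x hx hax t ht => Subtype.ext (hQaS x hx (congrArg Subtype.val hax) t ht)) ?_ ?_ ?_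
  · apply Subgroup.map_injective Δ.subtype_injective
    rw [hcommΔ hQΔ hSΔ, hQeq, Subgroup.map_subgroupOf_eq_of_le hQΔ]
  · intro z hz y hy
    refine Subtype.ext (hQ'S z ?_ y hy)
    rw [← hcommΔ hQΔ hQΔ]
    exact ⟨z, hz, rfl⟩
  · intro U hU
    have hinv : ∀ g, g ∈ A ∨ g ∈ Q ∨ g ∈ S0 → ∀ v ∈ U.map W.subtype, φ g v ∈ U.map W.subtype := by
      rintro g hg _ ⟨u, hu, rfl⟩
      exact ⟨ψ ⟨g, hmemΔ g hg⟩ u, hU ⟨g, hmemΔ g hg⟩ hg u hu, rfl⟩
    by_cases hfix : ∀ v ∈ U.map W.subtype, ∀ y ∈ Q, φ y v = v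
    · left
      rw [eq_bot_iff]
      intro u hu
      exact Subgroup.mem_bot.mpr (Subtype.ext (hWfree u u.2 (hfix u ⟨u, hu, rfl⟩)))
    · right
      push Not at hfix
      obtain ⟨v, hv, y, hy, hne⟩ := hfix
      have h := Subgroup.eq_of_le_of_card_ge (Subgroup.map_subtype_le U)
        (hWmin _ ⟨hinv, y, hy, v, hv, hne⟩)
      rw [eq_top_iff]
      intro u _
      have hu' : (u : V) ∈ U.map W.subtype := h.symm ▸ u.2
      obtain ⟨u', hu', e⟩ := hu'
      rwa [← Subtype.ext (e : (u' : V) = u)]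
  · intro w hw
    exact Subtype.ext (hWfree w w.2 fun y hy => congrArg Subtype.val (hw ⟨y, hQΔ hy⟩ hy))

end CfsgLib.Ward
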