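import Mathlib
import Cfsg.Agent.Lib.Ward.Linear
import Cfsg.Agent.Lib.Base.Fitting
import Cfsg.Agent.Lib.Base.MinimalNormal

/-!
# Ward's theorem: Fitting height two

A solvable group with an elementary group of order `p ^ 2` of operators without common fixed
points has nilpotent quotient by its Fitting subgroup.
-/

set_option linter.style.haveILetI false
set_option autoImplicit false

namespace CfsgLib.Ward

open Cfsg

universe u v

section Operators

variable {G : Type u} {A : Type v} [Group G] [Group A]

/-- Operators on a quotient by an invariant normal subgroup. -/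
noncomputable def quotientOp (ρ : A →* MulAut G) (N : Subgroup G) [N.Normal]
    (hN : ∀ a, ∀ n ∈ N, ρ a n ∈ N) : A →* MulAut (G ⧸ N) where
  toFun a := QuotientGroup.congr N N (ρ a) (le_antisymm
    (by rintro _ ⟨n, hn, rfl⟩; exact hN a n hn)
    (fun n hn => ⟨ρ a⁻¹ n, hN a⁻¹ n hn, by
      show ρ a (ρ a⁻¹ n) = n
      rw [← MulAut.mul_apply, ← map_mul, mul_inv_cancel, map_one, MulAut.one_apply]⟩))
  map_one' := MulEquiv.ext fun x => by
    obtain ⟨g, rfl⟩ := QuotientGroup.mk_surjective x
    show ((ρ 1 g : G) : G ⧸ N) = g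
    rw [map_one, MulAut.one_apply]
  map_mul' a b := MulEquiv.ext fun x => by
    obtain ⟨g, rfl⟩ := QuotientGroup.mk_surjective x
    show ((ρ (a * b) g : G) : G ⧸ N) = (ρ a (ρ b g) : G)
    rw [map_mul, MulAut.mul_apply]

theorem quotientOp_mk (ρ : A →* MulAut G) (N : Subgroup G) [N.Normal]
    (hN : ∀ a, ∀ n ∈ N, ρ a n ∈ N) (a : A) (g : G) :
    quotientOp ρ N hN a (g : G ⧸ N) = ((ρ a g : G) : G ⧸ N) := rfl

/-- A coprime solvable group of operators lifts fixed points modulo an invariant subgroup. -/
theorem exists_fixed_in_coset [Finite G] [Finite A] (hA : Group.IsSolvable A)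
    (ρ : A →* MulAut G) (N : Subgroup G) (hN : ∀ a, ∀ n ∈ N, ρ a n ∈ N)
    (hcop : (Nat.card A).Coprime (Nat.card N)) {x : G} (hx : ∀ a, x⁻¹ * ρ a x ∈ N) :
    ∃ c, (∀ a, ρ a c = c) ∧ x⁻¹ * c ∈ N := by
  haveI : Finite (G ⋊[ρ] A) := Finite.of_equiv _ SemidirectProduct.equivProd.symm
  have hconj : ∀ (a : A) (g : G),
      (SemidirectProduct.inr a : G ⋊[ρ] A) * SemidirectProduct.inl g *
        (SemidirectProduct.inr a)⁻¹ = SemidirectProduct.inl (ρ a g) := fun a g => by
    rw [SemidirectProduct.inl_aut, map_inv]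
  set A' := (SemidirectProduct.inr : A →* G ⋊[ρ] A).range with hA'
  set N' := N.map (SemidirectProduct.inl : G →* G ⋊[ρ] A) with hN'
  have hnorm : A' ≤ Subgroup.normalizer (N' : Set (G ⋊[ρ] A)) := by
    rintro _ ⟨a, rfl⟩
    rw [← CfsgLib.Base.map_conj_eq_self_iff]
    refine le_antisymm ?_ ?_
    · rintro _ ⟨_, ⟨n, hn, rfl⟩, rfl⟩
      exact ⟨ρ a n, hN a n hn, (hconj a n).symm⟩
    · rintro _ ⟨n, hn, rfl⟩
      refine ⟨SemidirectProduct.inl (ρ a⁻¹ n), ⟨_, hN a⁻¹ n hn, rfl⟩, ?_⟩
      show SemidirectProduct.inr a * SemidirectProduct.inl (ρ a⁻¹ n) *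
        (SemidirectProduct.inr a)⁻¹ = SemidirectProduct.inl n
      rw [hconj, ← MulAut.mul_apply, ← map_mul, mul_inv_cancel, map_one, MulAut.one_apply]
  have hcardA : Nat.card A' = Nat.card A :=
    (Nat.card_congr (MonoidHom.ofInjective (f := (SemidirectProduct.inr : A →* G ⋊[ρ] A))
      SemidirectProduct.inr_injective).toEquiv).symm
  have hcardN : Nat.card N' = Nat.card N :=
    Subgroup.card_map_of_injective SemidirectProduct.inl_injective
  have hA's : Group.IsSolvable A' := Group.isSolvable_of_surjective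
    (f := (SemidirectProduct.inr : A →* G ⋊[ρ] A).rangeRestrict) (MonoidHom.rangeRestrict_surjective _)
  obtain ⟨c, hc, hxc⟩ := CfsgLib.Coprime.exists_centralizing_in_coset hnorm
    (by rw [hcardA, hcardN]; exact hcop) (Or.inl hA's)
    (k := (SemidirectProduct.inl x : G ⋊[ρ] A)) (by
      rintro _ ⟨a, rfl⟩
      rw [hconj, ← map_inv, ← map_mul]
      exact ⟨_, hx a, rfl⟩)
  obtain ⟨n, hn, hn'⟩ := hxc
  have hc' : c = SemidirectProduct.inl (x * n) := by
    rw [map_mul, hn', mul_inv_cancel_left]
  refine ⟨x * n, fun a => ?_, by rwa [inv_mul_cancel_left]⟩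
  have h1 := Subgroup.mem_centralizer_iff.mp hc (SemidirectProduct.inr a) ⟨a, rfl⟩
  rw [hc'] at h1
  refine SemidirectProduct.inl_injective (φ := ρ) ?_
  rw [← hconj, h1, mul_inv_cancel_right]

end Operators

variable {A : Type v} [CommGroup A] [Finite A]

/-- Ward's theorem, in the form used for the Fitting height. -/
theorem exists_lowerCentralSeries_le_fitting {p : ℕ} (hp : p.Prime) (hexp : ∀ a : A, a ^ p = 1)
    (hcard : Nat.card A = p ^ 2) :
    ∀ (n : ℕ) (G : Type u) [Group G] [Finite G], Nat.card G = n → Group.IsSolvable G →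
      ∀ ρ : A →* MulAut G, (∀ g, (∀ a, ρ a g = g) → g = 1) →
        ∃ k : ℕ, (⊤ : Subgroup G).lowerCentralSeries k ≤ fittingSubgroup G := by
  intro n
  induction n using Nat.strong_induction_on with
  | _ n ih =>
    intro G _ _ hn hG ρ hfpf
    classical
    haveI := hG
    haveI := Fact.mk hp
    rcases subsingleton_or_nontrivial G with hS | hS
    · exact ⟨0, fun g _ => by rw [Subsingleton.elim g 1]; exact one_mem _⟩
    have hAp : IsPGroup p A := IsPGroup.iff_card.mpr ⟨2, hcard⟩
    have hAs : Group.IsSolvable A := Group.isSolvable_of_comm fun a b => mul_comm a b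
    -- `p` does not divide the order of `G`
    have hGp : (Nat.card G).Coprime p := by
      letI : MulAction A G :=
        { smul := fun a g => ρ a g
          one_smul := fun g => by show ρ 1 g = g; rw [map_one, MulAut.one_apply]
          mul_smul := fun a b g => by show ρ (a * b) g = ρ a (ρ b g); rw [map_mul, MulAut.mul_apply] }
      have hfix : MulAction.fixedPoints A G = {1} := by
        ext g
        refine ⟨fun h => hfpf g h, fun h => ?_⟩
        rw [Set.mem_singleton_iff.mp h]
        exact fun a => map_one (ρ a)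
      have h1 := hAp.card_modEq_card_fixedPoints G
      rw [hfix, Nat.card_coe_set_eq, Set.ncard_singleton] at h1
      refine (Nat.Prime.coprime_iff_not_dvd hp).mpr (fun hd => ?_) |>.symm
      have h2 : 1 ≡ 0 [MOD p] := h1.symm.trans (Nat.modEq_zero_iff_dvd.mpr hd)
      exact hp.one_lt.ne' (Nat.dvd_one.mp (Nat.modEq_zero_iff_dvd.mp h2))
    have hcopA : ∀ N : Subgroup G, (Nat.card A).Coprime (Nat.card N) := fun N => by
      rw [hcard]
      exact Nat.Coprime.pow_left 2 (hGp.coprime_dvd_left (Subgroup.card_subgroup_dvd_card N)).symm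
    -- a minimal invariant normal subgroup
    obtain ⟨V, ⟨hVne, hVn, hVinv⟩, hVmin⟩ := Set.exists_min_image
      {V : Subgroup G | V ≠ ⊥ ∧ V.Normal ∧ ∀ a, ∀ v ∈ V, ρ a v ∈ V} (fun V => Nat.card V)
      (Set.toFinite _) ⟨⊤, top_ne_bot, inferInstance, fun a v _ => Subgroup.mem_top _⟩
    haveI := hVn
    have hVmin' : ∀ U : Subgroup G, U ≤ V → U.Normal → (∀ a, ∀ v ∈ U, ρ a v ∈ U) → U ≠ ⊥ →
        U = V := fun U h1 h2 h3 h4 => Subgroup.eq_of_le_of_card_ge h1 (hVmin U ⟨h4, h2, h3⟩)
    have hVab : ∀ v ∈ V, ∀ w ∈ V, v * w = w * v := by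
      have hlt : ⁅V, V⁆ < V := CfsgLib.Base.commutator_self_lt_of_isSolvable hVne inferInstance
      have hbot : ⁅V, V⁆ = ⊥ := by
        by_contra h
        refine hlt.ne (hVmin' _ hlt.le inferInstance (fun a v hv => ?_) h)
        have h1 : (⁅V, V⁆).map (ρ a).toMonoidHom ≤ ⁅V, V⁆ := by
          rw [Subgroup.map_commutator]
          exact Subgroup.commutator_mono (by rintro _ ⟨w, hw, rfl⟩; exact hVinv a w hw)
            (by rintro _ ⟨w, hw, rfl⟩; exact hVinv a w hw)
        exact h1 ⟨v, hv, rfl⟩
      intro v hv w hw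
      exact (Subgroup.mem_centralizer_iff.mp
        (Subgroup.commutator_eq_bot_iff_le_centralizer.mp hbot hv) w hw).symm
    obtain ⟨r, hr, hrdvd⟩ : ∃ r, r.Prime ∧ r ∣ Nat.card V :=
      ⟨_, Nat.minFac_prime fun h => hVne (Subgroup.eq_bot_of_card_eq _ h), Nat.minFac_dvd _⟩
    haveI := Fact.mk hr
    have hVr : IsPGroup r V := by
      let R : Subgroup G :=
        { carrier := {v | v ∈ V ∧ v ^ r = 1}
          mul_mem' := fun {u w} hu hw => ⟨V.mul_mem hu.1 hw.1, by
            rw [(show Commute u w from hVab u hu.1 w hw.1).mul_pow, hu.2, hw.2, one_mul]⟩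
          one_mem' := ⟨V.one_mem, one_pow r⟩
          inv_mem' := fun {u} hu => ⟨V.inv_mem hu.1, by rw [inv_pow, hu.2, inv_one]⟩ }
      have hRn : R.Normal := ⟨fun u hu g => ⟨hVn.conj_mem u hu.1 g, by
        rw [conj_pow, hu.2, mul_one, mul_inv_cancel]⟩⟩
      obtain ⟨v, hv⟩ := exists_prime_orderOf_dvd_card' (G := V) r hrdvd
      have hv' : (v : G) ^ r = 1 := by
        rw [← Subgroup.orderOf_coe] at hv
        rw [← hv, pow_orderOf_eq_one]
      have hRV : R = V := hVmin' R (fun u hu => hu.1) hRn
        (fun a u hu => ⟨hVinv a u hu.1, by rw [← map_pow, hu.2, map_one]⟩) fun h => by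
          have hmem : (v : G) ∈ R := ⟨v.2, hv'⟩
          rw [h, Subgroup.mem_bot] at hmem
          rw [show v = 1 from Subtype.ext hmem, orderOf_one] at hv
          exact hr.ne_one hv.symm
      intro v
      refine ⟨1, Subtype.ext ?_⟩
      have hmem : (v : G) ∈ R := hRV.symm ▸ v.2
      simpa using hmem.2
    haveI : Nontrivial V := (Subgroup.nontrivial_iff_ne_bot V).mpr hVne
    -- the quotient by `V`
    have hVfit : ∃ k : ℕ, (⊤ : Subgroup (G ⧸ V)).lowerCentralSeries k ≤ fittingSubgroup (G ⧸ V) := by
      refine ih _ (hn ▸ CfsgLib.Coprime.card_quotient_lt hVne) (G ⧸ V) rfl inferInstance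
        (quotientOp ρ V hVinv) fun x hx => ?_
      obtain ⟨g, rfl⟩ := QuotientGroup.mk_surjective x
      obtain ⟨c, hc, hgc⟩ := exists_fixed_in_coset hAs ρ V hVinv (hcopA V)
        (x := g) (fun a => QuotientGroup.eq.mp ((quotientOp_mk ρ V hVinv a g).symm.trans (hx a)).symm)
      rw [hfpf c hc, mul_one] at hgc
      rw [QuotientGroup.eq_one_iff]
      simpa using V.inv_mem hgc
    -- the centralizer of `V`
    set C := Subgroup.centralizer (V : Set G) with hC
    haveI hCn : C.Normal := inferInstance
    have hCinv : ∀ a, ∀ c ∈ C, ρ a c ∈ C := fun a c hc => by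
      rw [hC, Subgroup.mem_centralizer_iff]
      intro v hv
      have h1 := Subgroup.mem_centralizer_iff.mp hc (ρ a⁻¹ v) (hVinv a⁻¹ v hv)
      have h2 := congrArg (ρ a) h1
      rwa [map_mul, map_mul, ← MulAut.mul_apply, ← map_mul, mul_inv_cancel, map_one,
        MulAut.one_apply] at h2
    have hGC : Group.IsNilpotent (G ⧸ C) := by
      haveI : Finite ((G ⧸ C) ⋊[quotientOp ρ C hCinv] A) :=
        Finite.of_equiv _ SemidirectProduct.equivProd.symm
      letI : CommGroup V :=
        { (inferInstance : Group V) with mul_comm := fun v w => Subtype.ext (hVab v v.2 w w.2) }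
      let τ : G →* MulAut V := MulAut.conjNormal
      let ψ : G ⧸ C →* MulAut V := QuotientGroup.lift C τ fun c hc => by
        refine MulEquiv.ext fun v => Subtype.ext ?_
        show c * (v : G) * c⁻¹ = v
        rw [← Subgroup.mem_centralizer_iff.mp hc v v.2, mul_inv_cancel_right]
      have hψinj : Function.Injective ψ := by
        rw [injective_iff_map_eq_one]
        intro x hx
        obtain ⟨g, rfl⟩ := QuotientGroup.mk_surjective x
        rw [QuotientGroup.eq_one_iff, hC, Subgroup.mem_centralizer_iff]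
        intro v hv
        have h0 := congrArg Subtype.val (DFunLike.congr_fun hx (⟨v, hv⟩ : V))
        have h1 : g * v * g⁻¹ = v := h0
        exact (mul_inv_eq_iff_eq_mul.mp h1).symm
      let σ : A →* MulAut V :=
        { toFun := fun a =>
            { toFun := fun v => ⟨ρ a v, hVinv a v v.2⟩
              invFun := fun v => ⟨ρ a⁻¹ v, hVinv a⁻¹ v v.2⟩
              left_inv := fun v => Subtype.ext (by
                show ρ a⁻¹ (ρ a v) = v
                rw [← MulAut.mul_apply, ← map_mul, inv_mul_cancel, map_one, MulAut.one_apply])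
              right_inv := fun v => Subtype.ext (by
                show ρ a (ρ a⁻¹ v) = v
                rw [← MulAut.mul_apply, ← map_mul, mul_inv_cancel, map_one, MulAut.one_apply])
              map_mul' := fun v w => Subtype.ext (map_mul (ρ a) _ _) }
          map_one' := MulEquiv.ext fun v => Subtype.ext (by
            show ρ 1 v = v
            rw [map_one, MulAut.one_apply])
          map_mul' := fun a b => MulEquiv.ext fun v => Subtype.ext (by
            show ρ (a * b) v = ρ a (ρ b v)
            rw [map_mul, MulAut.mul_apply]) }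
      let φ : (G ⧸ C) ⋊[quotientOp ρ C hCinv] A →* MulAut V :=
        SemidirectProduct.lift ψ σ fun a => by
          refine MonoidHom.ext fun x => ?_
          obtain ⟨g, rfl⟩ := QuotientGroup.mk_surjective x
          refine MulEquiv.ext fun v => Subtype.ext ?_
          show ρ a g * (v : G) * (ρ a g)⁻¹ = ρ a (g * (ρ a⁻¹ v : G) * g⁻¹)
          simp only [map_mul, map_inv, MulAut.apply_inv_self]
      set Γ := (G ⧸ C) ⋊[quotientOp ρ C hCinv] A
      set A' := (SemidirectProduct.inr : A →* Γ).range with hA'
      set L := (SemidirectProduct.inl : G ⧸ C →* Γ).range with hL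
      haveI : IsMulCommutative A' := ⟨⟨by
        rintro ⟨_, a, rfl⟩ ⟨_, b, rfl⟩
        exact Subtype.ext (by simp only [Subgroup.coe_mul, ← map_mul, mul_comm a b])⟩⟩
      have hLcard : Nat.card L = Nat.card (G ⧸ C) :=
        (Nat.card_congr (MonoidHom.ofInjective (f := (SemidirectProduct.inl : G ⧸ C →* Γ))
          SemidirectProduct.inl_injective).toEquiv).symm
      have hLnil : Group.IsNilpotent L := by
        refine isNilpotent_linear φ hp hr A' L (by rintro _ ⟨a, rfl⟩; rw [← map_pow, hexp, map_one])
          (by rw [hA', ← hcard]; exact (Nat.card_congr (MonoidHom.ofInjective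
            (f := (SemidirectProduct.inr : A →* Γ)) SemidirectProduct.inr_injective).toEquiv).symm)
          ?_ ?_ ?_ hVr (hGp.coprime_dvd_left (Subgroup.card_subgroup_dvd_card V)) ?_ ?_ ?_ ?_
        · rw [hL, SemidirectProduct.range_inl_eq_ker_rightHom]
          exact le_top.trans_eq (Subgroup.normalizer_eq_top _).symm
        · exact Group.isSolvable_of_surjective
            (f := (SemidirectProduct.inl : G ⧸ C →* Γ).rangeRestrict) (MonoidHom.rangeRestrict_surjective _)
        · rw [hLcard]
          exact hGp.coprime_dvd_left (Subgroup.card_quotient_dvd_card C)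
        · rintro _ ⟨x, rfl⟩ hx
          rw [show φ (SemidirectProduct.inl x) = ψ x from SemidirectProduct.lift_inl _ _ _ x] at hx
          rw [hψinj (hx.trans (map_one ψ).symm), map_one]
        · intro v hv
          refine Subtype.ext (hfpf v fun a => ?_)
          have h1 := hv (SemidirectProduct.inr a) ⟨a, rfl⟩
          rw [show φ (SemidirectProduct.inr a) = σ a from SemidirectProduct.lift_inr _ _ _ a] at h1
          exact congrArg Subtype.val h1
        · rintro _ ⟨x, rfl⟩ hx
          obtain ⟨g, rfl⟩ := QuotientGroup.mk_surjective x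
          have hfix : ∀ a, g⁻¹ * ρ a g ∈ C := fun a => by
            rw [← QuotientGroup.eq, ← quotientOp_mk ρ C hCinv a g]
            refine SemidirectProduct.inl_injective (φ := quotientOp ρ C hCinv) ?_
            rw [SemidirectProduct.inl_aut, map_inv, hx _ ⟨a, rfl⟩, mul_inv_cancel_right]
          obtain ⟨c, hc, hgc⟩ := exists_fixed_in_coset hAs ρ C hCinv (hcopA C) hfix
          rw [hfpf c hc, mul_one] at hgc
          rw [(QuotientGroup.eq_one_iff g).mpr (by simpa using C.inv_mem hgc), map_one]
        · intro W hW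
          have hn : (W.map V.subtype).Normal := ⟨by
            rintro _ ⟨w, hw, rfl⟩ g
            refine ⟨φ (SemidirectProduct.inl (g : G ⧸ C)) w,
              hW _ (Or.inr ⟨_, rfl⟩) w hw, ?_⟩
            rw [show φ (SemidirectProduct.inl (g : G ⧸ C)) = ψ (g : G ⧸ C) from
              SemidirectProduct.lift_inl _ _ _ _]
            rfl⟩
          by_cases hWb : W = ⊥
          · exact Or.inl hWb
          · right
            have h1 : W.map V.subtype = V := hVmin' _ (Subgroup.map_subtype_le W) hn
              (by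
                rintro a _ ⟨w, hw, rfl⟩
                refine ⟨φ (SemidirectProduct.inr a) w, hW _ (Or.inl ⟨a, rfl⟩) w hw, ?_⟩
                rw [show φ (SemidirectProduct.inr a) = σ a from SemidirectProduct.lift_inr _ _ _ a]
                rfl)
              (fun h => hWb ((Subgroup.map_eq_bot_iff_of_injective _ V.subtype_injective).mp h))
            rw [eq_top_iff]
            intro w _
            have hw : (w : G) ∈ W.map V.subtype := h1.symm ▸ w.2
            obtain ⟨w', hw', e⟩ := hw
            rwa [← Subtype.ext (e : (w' : G) = w)]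
      haveI := hLnil
      exact Subgroup.isNilpotent_of_ker_le_center
        (SemidirectProduct.inl : G ⧸ C →* Γ).rangeRestrict
        (by rw [(MonoidHom.ker_eq_bot_iff _).mpr
          (fun x y h => SemidirectProduct.inl_injective (congrArg Subtype.val h))]; exact bot_le)
    -- assembling
    haveI hFn : (fittingSubgroup (G ⧸ V)).Normal := CfsgLib.Base.fittingSubgroup_normal' _
    set M := (fittingSubgroup (G ⧸ V)).comap (QuotientGroup.mk' V) ⊓ C with hM
    have hMfit : M ≤ fittingSubgroup G := by
      refine CfsgLib.Base.le_fittingSubgroup ?_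
      let f : M →* G ⧸ V := (QuotientGroup.mk' V).comp M.subtype
      haveI : Group.IsNilpotent f.range := by
        refine CfsgLib.Base.isNilpotent_of_le ?_ (CfsgLib.Base.isNilpotent_fittingSubgroup (G ⧸ V))
        rintro _ ⟨x, rfl⟩
        exact x.2.1
      refine Subgroup.isNilpotent_of_ker_le_center f.rangeRestrict ?_
      intro x hx
      rw [MonoidHom.mem_ker] at hx
      have hxV : (x : G) ∈ V := (QuotientGroup.eq_one_iff _).mp (congrArg Subtype.val hx)
      rw [Subgroup.mem_center_iff]
      exact fun y => Subtype.ext (Subgroup.mem_centralizer_iff.mp y.2.2 x hxV).symm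
    obtain ⟨k₁, hk₁⟩ := hVfit
    obtain ⟨k₂, hk₂⟩ := Subgroup.nilpotent_iff_lowerCentralSeries.mp hGC
    refine ⟨max k₁ k₂, fun g hg => hMfit ⟨?_, ?_⟩⟩
    · have hm : QuotientGroup.mk' V g ∈ ((⊤ : Subgroup G).lowerCentralSeries (max k₁ k₂)).map
          (QuotientGroup.mk' V) := ⟨g, hg, rfl⟩
      rw [Subgroup.map_lowerCentralSeries, Subgroup.map_top_of_surjective _
        (QuotientGroup.mk'_surjective V)] at hm
      exact hk₁ (Subgroup.lowerCentralSeries_antitone _ (le_max_left _ _) hm)
    · have hm : QuotientGroup.mk' C g ∈ ((⊤ : Subgroup G).lowerCentralSeries (max k₁ k₂)).map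
          (QuotientGroup.mk' C) := ⟨g, hg, rfl⟩
      rw [Subgroup.map_lowerCentralSeries, Subgroup.map_top_of_surjective _
        (QuotientGroup.mk'_surjective C)] at hm
      have hm' := Subgroup.lowerCentralSeries_antitone _ (le_max_right k₁ k₂) hm
      rw [hk₂, Subgroup.mem_bot] at hm'
      exact (QuotientGroup.eq_one_iff g).mp hm'

end CfsgLib.Ward
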